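import Cfsg.Agent.Core.Fitting
import Mathlib.GroupTheory.Nilpotent

/-!
# Prime parts of elements; finite nilpotent groups
-/

set_option autoImplicit false

namespace Cfsg.Agent.CommValues

open Subgroup

universe u

variable {G : Type u} [Group G]

theorem exists_exponents {o : ℕ} (ho : o ≠ 0) {p : ℕ} (hp : p.Prime) :
    ∃ v m e e' : ℕ, o = p ^ v * m ∧ m.Coprime p ∧ e ≡ 1 [MOD p ^ v] ∧ m ∣ e ∧
      p ^ v ∣ e' ∧ e' ≡ 1 [MOD m] ∧ e + e' ≡ 1 [MOD o] := by
  obtain ⟨v, m, hm, rfl⟩ := Nat.exists_eq_pow_mul_and_not_dvd ho p hp.ne_one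
  have hc : (p ^ v).Coprime m := (hp.coprime_iff_not_dvd.2 hm).pow_left v
  obtain ⟨e, he1, he0⟩ := Nat.chineseRemainder hc 1 0
  obtain ⟨e', he'0, he'1⟩ := Nat.chineseRemainder hc 0 1
  refine ⟨v, m, e, e', rfl, (hp.coprime_iff_not_dvd.2 hm).symm, he1, Nat.modEq_zero_iff_dvd.1 he0,
    Nat.modEq_zero_iff_dvd.1 he'0, he'1, ?_⟩
  refine (Nat.modEq_and_modEq_iff_modEq_mul hc).1 ⟨?_, ?_⟩
  · simpa using he1.add he'0
  · simpa using he0.add he'1

/-- The `p`-part and the `p'`-part of an element. -/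
theorem exists_parts [Finite G] (g : G) {p : ℕ} (hp : p.Prime) :
    ∃ e e' : ℕ, g ^ e * g ^ e' = g ∧ (∃ n, orderOf (g ^ e) ∣ p ^ n) ∧
      (orderOf (g ^ e')).Coprime p ∧ (p ∣ orderOf g → ¬ p ∣ e) := by
  obtain ⟨v, m, e, e', ho, hm, he1, hme, hve, -, hsum⟩ := exists_exponents (orderOf_pos g).ne' hp
  refine ⟨e, e', ?_, ⟨v, ?_⟩, ?_, fun hd => ?_⟩
  · rw [← pow_add]; nth_rw 2 [← pow_one g]
    exact pow_eq_pow_iff_modEq.2 hsum
  · refine orderOf_dvd_of_pow_eq_one ?_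
    rw [← pow_mul]
    exact orderOf_dvd_iff_pow_eq_one.1 (ho ▸ by rw [mul_comm e]; exact Nat.mul_dvd_mul_left _ hme)
  · refine Nat.Coprime.coprime_dvd_left ?_ hm
    refine orderOf_dvd_of_pow_eq_one ?_
    rw [← pow_mul]
    exact orderOf_dvd_iff_pow_eq_one.1 (ho ▸ Nat.mul_dvd_mul_right hve m)
  · intro hpe
    have hv : v ≠ 0 := by
      rintro rfl
      rw [pow_zero, one_mul] at ho
      exact hp.one_lt.ne' (Nat.dvd_one.1 (hm.gcd_eq_one ▸ Nat.dvd_gcd (ho ▸ hd) dvd_rfl))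
    have h1 : e ≡ 1 [MOD p] := he1.of_dvd (dvd_pow_self p hv)
    exact hp.one_lt.ne' (Nat.dvd_one.1 (h1.dvd_iff dvd_rfl |>.1 hpe))

theorem exists_part [Finite G] (g : G) {p : ℕ} (hp : p.Prime) :
    ∃ e : ℕ, (∃ n, orderOf (g ^ e) ∣ p ^ n) ∧ (p ∣ orderOf g → ¬ p ∣ e) := by
  obtain ⟨e, e', -, h, -, h'⟩ := exists_parts g hp
  exact ⟨e, h, h'⟩

/-- An element lies in a subgroup containing all its prime parts. -/
theorem mem_of_parts [Finite G] (S : Subgroup G) (g : G)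
    (h : ∀ p : ℕ, p.Prime → p ∣ orderOf g → ∃ e : ℕ, ¬ p ∣ e ∧ g ^ e ∈ S) : g ∈ S := by
  classical
  have hex : ∃ n : ℕ, 0 < n ∧ g ^ n ∈ S :=
    ⟨orderOf g, orderOf_pos g, by rw [pow_orderOf_eq_one]; exact one_mem S⟩
  obtain ⟨hn, hnS⟩ := Nat.find_spec hex
  set n := Nat.find hex
  have hdvd : ∀ e : ℕ, g ^ e ∈ S → n ∣ e := by
    intro e he
    refine Nat.dvd_of_mod_eq_zero (by_contra fun h0 => ?_)
    have : g ^ (e % n) ∈ S := by
      have h1 : g ^ e = (g ^ n) ^ (e / n) * g ^ (e % n) := by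
        rw [← pow_mul, ← pow_add, Nat.div_add_mod]
      exact (S.mul_mem_cancel_left (pow_mem hnS _)).1 (h1 ▸ he)
    exact absurd ⟨Nat.pos_of_ne_zero h0, this⟩ (Nat.find_min hex (Nat.mod_lt _ hn))
  rcases eq_or_ne n 1 with h1 | h1
  · simpa [h1] using hnS
  · obtain ⟨p, hp, hpn⟩ := Nat.exists_prime_and_dvd h1
    have hpo : p ∣ orderOf g :=
      hpn.trans (hdvd _ (by rw [pow_orderOf_eq_one]; exact one_mem S))
    obtain ⟨e, he, heS⟩ := h p hp hpo
    exact absurd (hpn.trans (hdvd e heS)) he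

section Nilpotent

variable [Finite G] [Group.IsNilpotent G]

theorem exists_coord :
    ∃ (ι : Type) (π : ι → (G →* G)) (q : ι → ℕ), (∀ i, (q i).Prime) ∧
      (∀ a b : G, (∀ i, π i a = π i b) → a = b) ∧
      (∀ i a, ∃ n, (π i a) ^ (q i) ^ n = 1) := by
  classical
  obtain ⟨e⟩ := ((Group.isNilpotent_of_finite_tfae (G := G)).out 0 4).mp ‹Group.IsNilpotent G›
  refine ⟨(Nat.card G).primeFactors, ?_⟩
  refine ⟨fun i => ?_, fun i => (i : ℕ), fun i => Nat.prime_of_mem_primeFactors i.2, ?_, ?_⟩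
  · exact (((Subgroup.subtype _).comp (Pi.evalMonoidHom _ (Classical.arbitrary _))).comp
      (Pi.evalMonoidHom _ i)).comp e.symm.toMonoidHom
  · intro a b hab
    refine e.symm.injective (funext fun p => funext fun P => ?_)
    have := Fact.mk (Nat.prime_of_mem_primeFactors p.2)
    have hn : ((Classical.arbitrary (Sylow (p : ℕ) G) : Sylow (p : ℕ) G) : Subgroup G).Normal :=
      inferInstance
    have := Sylow.unique_of_normal (Classical.arbitrary (Sylow (p : ℕ) G)) hn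
    rw [Subsingleton.elim P (Classical.arbitrary _)]
    exact Subtype.ext (hab p)
  · intro i a
    have := Fact.mk (Nat.prime_of_mem_primeFactors i.2)
    obtain ⟨n, hn⟩ := (Classical.arbitrary (Sylow (i : ℕ) G)).isPGroup'
      ((e.symm a) i (Classical.arbitrary _))
    exact ⟨n, congrArg Subtype.val hn⟩

/-- Elements of coprime order commute in a finite nilpotent group. -/
theorem commute_of_coprime {a b : G} (h : (orderOf a).Coprime (orderOf b)) : Commute a b := by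
  obtain ⟨ι, π, q, hq, hinj, hpow⟩ := exists_coord (G := G)
  refine hinj _ _ fun i => ?_
  obtain ⟨n, hn⟩ := hpow i a
  obtain ⟨m, hm⟩ := hpow i b
  obtain ⟨j, -, hj⟩ := (Nat.dvd_prime_pow (hq i)).1 (orderOf_dvd_of_pow_eq_one hn)
  obtain ⟨l, -, hl⟩ := (Nat.dvd_prime_pow (hq i)).1 (orderOf_dvd_of_pow_eq_one hm)
  have hc : (orderOf (π i a)).Coprime (orderOf (π i b)) :=
    Nat.Coprime.coprime_dvd_left (orderOf_map_dvd _ _)
      (Nat.Coprime.coprime_dvd_right (orderOf_map_dvd _ _) h)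
  rw [hj, hl] at hc
  rcases Nat.eq_zero_or_pos j with rfl | hjp
  · rw [pow_zero, orderOf_eq_one_iff] at hj
    simp [hj]
  rcases Nat.eq_zero_or_pos l with rfl | hlp
  · rw [pow_zero, orderOf_eq_one_iff] at hl
    simp [hl]
  exact absurd ((Nat.coprime_pow_left_iff hjp _ _).1 hc)
    (fun h' => (hq i).coprime_iff_not_dvd.1 h' (dvd_pow_self _ hlp.ne'))

/-- The projection to the Sylow `p`-subgroup is a power map. -/
theorem exists_partHom {p : ℕ} (hp : p.Prime) :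
    ∃ (f : G →* G) (e : ℕ), (∀ d, f d = d ^ e) ∧ (∀ d, ∃ n, f d ^ p ^ n = 1) ∧
      (p ∣ Nat.card G → ¬ p ∣ e) := by
  obtain ⟨v, m, e, e', ho, hm, he1, hme, -, -, -⟩ := exists_exponents (Nat.card_pos (α := G)).ne' hp
  obtain ⟨ι, π, q, hq, hinj, hpow⟩ := exists_coord (G := G)
  have hcase : ∀ i, ∀ x : G, (q i = p → π i (x ^ e) = π i x) ∧ (q i ≠ p → π i (x ^ e) = 1) := by
    intro i x
    obtain ⟨n, hn⟩ := hpow i x
    have hd : orderOf (π i x) ∣ p ^ v * m := ho ▸ orderOf_dvd_natCard _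
    have hdn : orderOf (π i x) ∣ q i ^ n := orderOf_dvd_of_pow_eq_one hn
    rw [map_pow]
    refine ⟨fun hqp => ?_, fun hqp => ?_⟩
    · have hcop : (orderOf (π i x)).Coprime m :=
        Nat.Coprime.coprime_dvd_left (hqp ▸ hdn) (hm.symm.pow_left n)
      nth_rw 2 [← pow_one (π i x)]
      exact pow_eq_pow_iff_modEq.2 (he1.of_dvd (hcop.dvd_of_dvd_mul_right hd))
    · have hcop : (orderOf (π i x)).Coprime (p ^ v) :=
        Nat.Coprime.coprime_dvd_left hdn
          (((Nat.coprime_primes (hq i) hp).2 hqp).pow _ _)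
      exact orderOf_dvd_iff_pow_eq_one.1 ((hcop.dvd_of_dvd_mul_left hd).trans hme)
  refine ⟨{ toFun := fun d => d ^ e, map_one' := one_pow e, map_mul' := fun a b => ?_ }, e,
    fun d => rfl, fun d => ⟨v, ?_⟩, fun hd => ?_⟩
  · refine hinj _ _ fun i => ?_
    by_cases hqp : q i = p
    · rw [(hcase i _).1 hqp, map_mul, map_mul, (hcase i _).1 hqp, (hcase i _).1 hqp]
    · rw [(hcase i _).2 hqp, map_mul, (hcase i _).2 hqp, (hcase i _).2 hqp, mul_one]
  · change (d ^ e) ^ p ^ v = 1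
    rw [← pow_mul, ← orderOf_dvd_iff_pow_eq_one, mul_comm e]
    exact (orderOf_dvd_natCard d).trans (ho ▸ Nat.mul_dvd_mul_left _ hme)
  · intro hpe
    have hv : v ≠ 0 := by
      rintro rfl
      rw [pow_zero, one_mul] at ho
      exact hp.one_lt.ne' (Nat.dvd_one.1 (hm.gcd_eq_one ▸ Nat.dvd_gcd (ho ▸ hd) dvd_rfl))
    exact hp.one_lt.ne' (Nat.dvd_one.1 ((he1.of_dvd (dvd_pow_self p hv)).dvd_iff dvd_rfl |>.1 hpe))

theorem mem_pCore_of_pow {p : ℕ} (hp : p.Prime) {x : G} (hx : ∃ n, x ^ p ^ n = 1) :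
    x ∈ Cfsg.pCore p G := by
  have := Fact.mk hp
  obtain ⟨n, hn⟩ := hx
  have hz : IsPGroup p (zpowers x) := by
    intro y
    refine ⟨n, Subtype.ext ?_⟩
    obtain ⟨i, hi⟩ := mem_zpowers_iff.1 y.2
    rw [Subgroup.coe_pow, ← hi, ← zpow_natCast, ← zpow_mul, mul_comm, zpow_mul, zpow_natCast, hn,
      one_zpow, Subgroup.coe_one]
  obtain ⟨P, hP⟩ := hz.exists_le_sylow
  have hn' : (P : Subgroup G).Normal := inferInstance
  exact Core.le_pCore P.isPGroup' (hP (mem_zpowers x))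

end Nilpotent

end Cfsg.Agent.CommValues
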