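import Cfsg.Agent.Core.Fitting
import Mathlib.GroupTheory.Nilpotent

/-!
# Left-normed commutator values with the product-order condition

`Val k x`: `x` is a left-normed commutator value with `k + 1` entries.  `Cond k G`: two values of
coprime orders multiply to an element whose order involves all their primes, or is large.
-/

set_option autoImplicit false

namespace Cfsg.Agent.CommValues

open Subgroup
open scoped commutatorElement

universe u

variable {G : Type u} [Group G] {H : Type*} [Group H]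

/-- `x` is a left-normed commutator value with `k + 1` entries. -/
def Val : ℕ → G → Prop
  | 0, _ => True
  | n + 1, x => ∃ a, Val n a ∧ ∃ b, x = ⁅a, b⁆

theorem val_list (k : ℕ) (x : G) :
    Val k x ↔ ∃ (a : G) (l : List G), l.length = k ∧
      x = l.foldl (fun a b => a * b * a⁻¹ * b⁻¹) a := by
  induction k generalizing x with
  | zero => exact ⟨fun _ => ⟨x, [], rfl, rfl⟩, fun _ => trivial⟩
  | succ n ih =>
    constructor
    · rintro ⟨a, ha, b, rfl⟩
      obtain ⟨a0, l, hl, rfl⟩ := (ih a).1 ha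
      exact ⟨a0, l ++ [b], by simp [hl], by simp [List.foldl_append, commutatorElement_def]⟩
    · rintro ⟨a0, l, hl, rfl⟩
      obtain ⟨l', b, rfl⟩ : ∃ l' b, l = l' ++ [b] := by
        rcases List.eq_nil_or_concat l with h | ⟨l', b, h⟩
        · simp [h] at hl
        · exact ⟨l', b, by simpa [List.concat_eq_append] using h⟩
      refine ⟨_, (ih _).2 ⟨a0, l', by simpa using hl, rfl⟩, b, ?_⟩
      simp [List.foldl_append, commutatorElement_def]

theorem val_iff (k : ℕ) (x : G) :
    Val k x ↔ ∃ f : Fin (k + 1) → G,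
      x = ((List.ofFn f).tail).foldl (fun a b => a * b * a⁻¹ * b⁻¹) (f 0) := by
  rw [val_list]
  constructor
  · rintro ⟨a, l, rfl, hx⟩
    exact ⟨Fin.cons a l.get, by simpa [List.ofFn_succ, List.ofFn_get] using hx⟩
  · rintro ⟨f, hx⟩
    exact ⟨f 0, (List.ofFn f).tail, by simp, hx⟩

theorem Val.of_succ : ∀ {k : ℕ} {x : G}, Val (k + 1) x → Val k x
  | 0, _, _ => trivial
  | n + 1, _, ⟨a, ha, b, hx⟩ => ⟨a, Val.of_succ (k := n) ha, b, hx⟩

theorem Val.comm_right {k : ℕ} {x : G} (hx : Val k x) (g : G) : Val k ⁅x, g⁆ :=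
  Val.of_succ ⟨x, hx, g, rfl⟩

theorem Val.map (f : G →* H) : ∀ {k : ℕ} {x : G}, Val k x → Val k (f x)
  | 0, _, _ => trivial
  | _ + 1, _, ⟨a, ha, b, hx⟩ => ⟨f a, Val.map f ha, f b, by rw [hx, map_commutatorElement]⟩

theorem Val.conj {k : ℕ} {x : G} (hx : Val k x) (g : G) : Val k (g * x * g⁻¹) :=
  hx.map (MulAut.conj g).toMonoidHom

/-- The map `w ↦ [w, y]`. -/
def eng (y : G) : G → G := fun w => ⁅w, y⁆

theorem val_iterate_eng (y w : G) : ∀ k : ℕ, Val k ((eng y)^[k] w)
  | 0 => trivial
  | n + 1 => ⟨_, val_iterate_eng y w n, y, by rw [Function.iterate_succ_apply']; rfl⟩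

theorem map_iterate_eng (f : G →* H) (y w : G) :
    ∀ k : ℕ, f ((eng y)^[k] w) = (eng (f y))^[k] (f w)
  | 0 => rfl
  | n + 1 => by
    rw [Function.iterate_succ_apply', Function.iterate_succ_apply', eng, eng, map_commutatorElement,
      map_iterate_eng f y w n]

theorem eng_mem {Q : Subgroup G} {y w : G} (hy : y ∈ normalizer (Q : Set G)) (hw : w ∈ Q) :
    eng y w ∈ Q := by
  have h : y * w⁻¹ * y⁻¹ ∈ Q := (mem_normalizer_iff.1 hy _).1 (inv_mem hw)
  have : eng y w = w * (y * w⁻¹ * y⁻¹) := by simp [eng, commutatorElement_def, mul_assoc]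
  rw [this]
  exact mul_mem hw h

theorem iterate_eng_mem {Q : Subgroup G} {y w : G} (hy : y ∈ normalizer (Q : Set G)) (hw : w ∈ Q) :
    ∀ k : ℕ, (eng y)^[k] w ∈ Q
  | 0 => hw
  | n + 1 => by rw [Function.iterate_succ_apply']; exact eng_mem hy (iterate_eng_mem hy hw n)

theorem commute_of_eng_eq_one {y w : G} (h : eng y w = 1) : Commute w y :=
  commutatorElement_eq_one_iff_commute.1 h

theorem eng_eq_one_of_iterate [Finite G] {Q : Subgroup G} {y : G}
    (hy : y ∈ normalizer (Q : Set G)) (hcop : (orderOf y).Coprime (Nat.card Q)) :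
    ∀ (k : ℕ) (w : G), w ∈ Q → (eng y)^[k] w = 1 → eng y w = 1
  | 0, w, _, h => by
    have : w = 1 := h
    simp [this, eng]
  | 1, w, _, h => h
  | n + 2, w, hw, h => by
    have h1 : eng y (eng y w) = 1 := by
      refine eng_eq_one_of_iterate hy hcop (n + 1) (eng y w) (eng_mem hy hw) ?_
      rw [← Function.iterate_succ_apply]; exact h
    set c := eng y w with hc
    have hcy : Commute c y := commute_of_eng_eq_one h1
    have hcy' : c * y = w * y * w⁻¹ := by simp [hc, eng, commutatorElement_def]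
    have h2 : (c * y) ^ orderOf y = 1 := by
      rw [hcy', conj_pow, pow_orderOf_eq_one, mul_one, mul_inv_cancel]
    rw [hcy.mul_pow, pow_orderOf_eq_one, mul_one] at h2
    refine orderOf_eq_one_iff.1 (Nat.dvd_one.1 ?_)
    rw [← hcop.gcd_eq_one]
    refine Nat.dvd_gcd (orderOf_dvd_of_pow_eq_one h2) ?_
    exact orderOf_dvd_natCard Q (eng_mem hy hw)

/-- The condition of the theorem. -/
def Cond (k : ℕ) (G : Type u) [Group G] : Prop :=
  ∀ x y : G, Val k x → Val k y → (orderOf x).Coprime (orderOf y) →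
    (∀ r : ℕ, r.Prime → r ∣ orderOf x * orderOf y → r ∣ orderOf (x * y)) ∨
      orderOf x * orderOf y ≤ orderOf (x * y)

theorem Cond.subgroup {k : ℕ} (hG : Cond k G) (K : Subgroup G) : Cond k K := by
  intro x y hx hy hc
  have h := hG x y (hx.map K.subtype) (hy.map K.subtype)
    (by rwa [Subgroup.orderOf_coe, Subgroup.orderOf_coe])
  rwa [Subgroup.orderOf_coe, Subgroup.orderOf_coe, ← Subgroup.coe_mul, Subgroup.orderOf_coe] at h

/-- A value commutes with every element moving it by a coprime element. -/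
theorem Cond.comm_eq_one [Finite G] {k : ℕ} (hG : Cond k G) {x g : G} (hx : Val k x)
    (hcop : (orderOf ⁅x, g⁆).Coprime (orderOf x)) : ⁅x, g⁆ = 1 := by
  have ho : orderOf (g * x * g⁻¹) = orderOf x := (MulAut.conj g).orderOf_eq x
  have hmul : ⁅x, g⁆ * (g * x * g⁻¹) = x := by
    simp [commutatorElement_def, mul_assoc]
  have h := hG _ _ (hx.comm_right g) (hx.conj g) (by rwa [ho])
  rw [hmul, ho] at h
  by_contra hne
  have hne' : orderOf ⁅x, g⁆ ≠ 1 := fun e => hne (orderOf_eq_one_iff.1 e)
  rcases h with h | h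
  · obtain ⟨r, hr, hrd⟩ := Nat.exists_prime_and_dvd hne'
    exact Nat.not_coprime_of_dvd_of_dvd hr.one_lt hrd (h r hr (dvd_mul_of_dvd_left hrd _)) hcop
  · have h1 : 1 < orderOf ⁅x, g⁆ := by
      have := orderOf_pos (⁅x, g⁆ : G); omega
    have h2 : 0 < orderOf x := orderOf_pos x
    have : orderOf x * 1 < orderOf x * orderOf ⁅x, g⁆ := Nat.mul_lt_mul_of_pos_left h1 h2
    rw [mul_one, Nat.mul_comm] at this
    omega

/-- A value centralizes every subgroup of coprime order which it normalizes. -/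
theorem Cond.commute_of_normalizes [Finite G] {k : ℕ} (hG : Cond k G) {x : G} (hx : Val k x)
    {W : Subgroup G} (hxW : x ∈ normalizer (W : Set G))
    (hcop : (orderOf x).Coprime (Nat.card W)) {w : G} (hw : w ∈ W) : Commute x w := by
  refine commutatorElement_eq_one_iff_commute.1 (hG.comm_eq_one hx ?_)
  have hmem : ⁅x, w⁆ ∈ W := by
    rw [commutatorElement_def]
    exact mul_mem ((mem_normalizer_iff.1 hxW w).1 hw) (inv_mem hw)
  exact (hcop.coprime_dvd_right (orderOf_dvd_natCard W hmem)).symm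

theorem val_subset_lcs : ∀ {k : ℕ} {x : G}, Val k x → x ∈ (⊤ : Subgroup G).lowerCentralSeries k
  | 0, _, _ => mem_top _
  | _ + 1, _, ⟨a, ha, b, hx⟩ => hx ▸ commutator_mem_commutator (val_subset_lcs ha) (mem_top b)

theorem lcs_le_of_val (N : Subgroup G) [N.Normal] :
    ∀ k : ℕ, (∀ x : G, Val k x → x ∈ N) → (⊤ : Subgroup G).lowerCentralSeries k ≤ N
  | 0, h => fun x _ => h x trivial
  | n + 1, h => by
    let f := QuotientGroup.mk' N
    have hC : (⊤ : Subgroup G).lowerCentralSeries n ≤ (center (G ⧸ N)).comap f := by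
      refine lcs_le_of_val ((center (G ⧸ N)).comap f) n fun x hx => mem_center_iff.2 fun q => ?_
      obtain ⟨g, rfl⟩ := QuotientGroup.mk'_surjective N q
      have : (⁅x, g⁆ : G) ∈ N := h _ ⟨x, hx, g, rfl⟩
      have h1 : f ⁅x, g⁆ = 1 := (QuotientGroup.eq_one_iff _).2 this
      rw [map_commutatorElement] at h1
      exact (commutatorElement_eq_one_iff_commute.1 h1).eq.symm
    rw [Subgroup.lowerCentralSeries_succ, commutator_le]
    intro a ha b _
    refine (QuotientGroup.eq_one_iff _).1 ?_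
    change f ⁅a, b⁆ = 1
    rw [map_commutatorElement]
    exact commutatorElement_eq_one_iff_commute.2 ((mem_center_iff.1 (hC ha) (f b)).symm)

end Cfsg.Agent.CommValues
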