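import Cfsg.Agent.CommValues.Local
import Cfsg.Agent.Invol.ZStar

/-!
# The simple section has odd order
-/

set_option autoImplicit false

namespace Cfsg.Agent.CommValues

open Subgroup Cfsg
open scoped commutatorElement

universe u

variable {S : Type u} [Group S] [Finite S] (h : Setting S)

include h

theorem Setting.no_involution_X {t : S} (ht : orderOf t = 2) (hX : t ∈ h.X 2) : False := by
  have := h.simple
  obtain ⟨g, w, hw1, hodd, hinv, -⟩ := Invol.exists_inverted_odd ht fun N hN hNp htN => by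
    rcases hN.eq_bot_or_eq_top with h1 | h1
    · rw [h1, mem_bot] at htN; simp [htN] at ht
    · exact h.ne_top_of_isPGroup hNp h1
  set H := normalizer ((zpowers w : Subgroup S) : Set S)
  have htH : t ∈ H := by
    refine Invol.mem_normalizer_of_conj_le ?_
    rintro _ ⟨v, hv, rfl⟩
    obtain ⟨i, rfl⟩ := mem_zpowers_iff.1 hv
    simp only [MulEquiv.coe_toMonoidHom, MulAut.conj_apply]
    rw [← conj_zpow, hinv]
    exact zpow_mem (inv_mem (mem_zpowers w)) i
  have hH : H ≠ ⊤ := by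
    refine h.normalizer_ne_top (fun e => hw1 (zpowers_eq_bot.1 e)) fun e => h.not_solvable ?_
    have : IsCyclic S := isCyclic_iff_exists_zpowers_eq_top.2 ⟨w, e⟩
    exact Group.isSolvable_of_comm IsCyclic.commGroup.mul_comm
  obtain ⟨t', ht', htt⟩ := h.x_local 2 Nat.prime_two H hH t hX htH
  have hwH : w ∈ H := le_normalizer (mem_zpowers w)
  set w' : H := ⟨w, hwH⟩
  have hmem : t' * w' * t'⁻¹ * w'⁻¹ ∈ pCore 2 H := by
    rw [show t' * w' * t'⁻¹ * w'⁻¹ = t' * (w' * t'⁻¹ * w'⁻¹) by group]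
    exact mul_mem ht' (Subgroup.Normal.conj_mem inferInstance _ (inv_mem ht') w')
  obtain ⟨n, hn⟩ := Core.pCore_isPGroup (p := 2) (G := H) ⟨_, hmem⟩
  have h2 : (w⁻¹ * w⁻¹) ^ 2 ^ n = 1 := by
    have := congrArg (fun v : pCore 2 H => ((v : H) : S)) hn
    simp only [Subgroup.coe_pow, Subgroup.coe_mul, Subgroup.coe_inv, Subgroup.coe_one] at this
    rw [show ((t' : H) : S) = t from htt, show ((w' : H) : S) = w from rfl, hinv] at this
    exact this
  refine hw1 (orderOf_eq_one_iff.1 (Nat.dvd_one.1 ?_))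
  have h3 : orderOf w ∣ 2 ^ (n + 1) := by
    refine orderOf_dvd_of_pow_eq_one ?_
    rw [← pow_two, ← pow_mul, ← pow_succ', inv_pow, inv_eq_one] at h2
    exact h2
  rw [← ((Nat.coprime_two_right.2 hodd).pow_right (n + 1)).gcd_eq_one]
  exact Nat.dvd_gcd dvd_rfl h3

theorem Setting.odd_card : Odd (Nat.card S) := by
  by_contra hev
  rw [Nat.not_odd_iff_even, even_iff_two_dvd] at hev
  have := h.simple
  have : Fact (Nat.Prime 2) := ⟨Nat.prime_two⟩
  obtain ⟨P⟩ := (inferInstance : Nonempty (Sylow 2 S))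
  have hPnt : Nontrivial (P : Subgroup S) :=
    (nontrivial_iff_ne_bot _).2 (P.ne_bot_of_dvd_card hev)
  have hc : Nontrivial (center (P : Subgroup S)) := P.isPGroup'.center_nontrivial
  obtain ⟨z₀, hz₀⟩ := exists_prime_orderOf_dvd_card' (G := center (P : Subgroup S)) 2 (by
    obtain ⟨n, hn⟩ := IsPGroup.iff_card.1 (P.isPGroup'.to_subgroup (center (P : Subgroup S)))
    rcases n with _ | n
    · rw [pow_zero] at hn
      exact absurd hn (Finite.one_lt_card (α := center (P : Subgroup S))).ne'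
    · rw [hn]; exact dvd_pow_self 2 n.succ_ne_zero)
  set z : S := ((z₀ : (P : Subgroup S)) : S) with hz
  have hzP : z ∈ (P : Subgroup S) := (z₀ : (P : Subgroup S)).2
  have hzo : orderOf z = 2 := by rw [hz, Subgroup.orderOf_coe, Subgroup.orderOf_coe, hz₀]
  have hz1 : z ≠ 1 := fun e => by simp [e] at hzo
  have hzc : ∀ v ∈ (P : Subgroup S), z * v = v * z := fun v hv =>
    (congrArg Subtype.val (mem_center_iff.1 z₀.2 ⟨v, hv⟩)).symm
  let E : Subgroup S :=
    { carrier := {w | w ∈ (P : Subgroup S) ∧ (∀ v ∈ (P : Subgroup S), w * v = v * w) ∧ w ^ 2 = 1}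
      one_mem' := ⟨one_mem _, fun v _ => by simp, one_pow 2⟩
      mul_mem' := fun {a b} ha hb => ⟨mul_mem ha.1 hb.1,
        fun v hv => (Commute.mul_left (ha.2.1 v hv) (hb.2.1 v hv)).eq,
        by rw [(Commute.mul_pow (ha.2.1 b hb.1) 2), ha.2.2, hb.2.2, one_mul]⟩
      inv_mem' := fun {a} ha => ⟨inv_mem ha.1, fun v hv => (Commute.inv_left (ha.2.1 v hv)).eq,
        by rw [inv_pow, ha.2.2, inv_one]⟩ }
  have hEP : E ≤ (P : Subgroup S) := fun w hw => hw.1
  have hEX : ∀ w ∈ E, w ∉ h.X 2 := fun w hw hwX =>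
    h.no_involution_X (orderOf_eq_prime hw.2.2 (h.x_spec 2 w hwX).1) hwX
  have hiso : Cfsg.IsIsolatedInvolution z := by
    refine ⟨hzo, fun g hg => ?_⟩
    have hz'N : g * z * g⁻¹ ∈ normalizer ((P : Subgroup S) : Set S) :=
      h.centralizer_le P hzP hz1 (mem_centralizer_singleton_iff.2 hg.eq.symm)
    have hz'P : g * z * g⁻¹ ∈ (P : Subgroup S) := mem_sylow_of_normalizes P hz'N
      ⟨1, by rw [pow_one, conj_pow, show z ^ 2 = 1 from hzo ▸ pow_orderOf_eq_one z]; group⟩
    have hgP : (g • P : Sylow 2 S) = P := by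
      refine h.sylow_eq_of_mem (g • P) P (s := g * z * g⁻¹) ⟨z, hzP, rfl⟩ hz'P ?_
      rwa [Ne, conj_eq_one_iff]
    have hgN : g ∈ normalizer ((P : Subgroup S) : Set S) := Sylow.smul_eq_iff_mem_normalizer.1 hgP
    obtain ⟨e, e', hee, ⟨n, hn⟩, hcop, -⟩ := exists_parts g Nat.prime_two
    have hu := mem_sylow_of_normalizes P (pow_mem hgN e) ⟨n, orderOf_dvd_iff_pow_eq_one.1 hn⟩
    have hy : g ^ e' ∈ normalizer (E : Set S) := by
      refine Invol.mem_normalizer_of_conj_le ?_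
      rintro _ ⟨w, hw, rfl⟩
      have hyP := pow_mem hgN e'
      refine ⟨(mem_normalizer_iff.1 hyP w).1 hw.1, fun v hv => ?_, ?_⟩
      · have hv' := (mem_normalizer_iff''.1 hyP v).1 hv
        have := hw.2.1 _ hv'
        simp only [MulEquiv.coe_toMonoidHom, MulAut.conj_apply]
        calc g ^ e' * w * (g ^ e')⁻¹ * v = g ^ e' * (w * ((g ^ e')⁻¹ * v * g ^ e')) * (g ^ e')⁻¹ := by group
          _ = g ^ e' * ((g ^ e')⁻¹ * v * g ^ e' * w) * (g ^ e')⁻¹ := by rw [this]
          _ = v * (g ^ e' * w * (g ^ e')⁻¹) := by group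
      · rw [← map_pow, hw.2.2, map_one]
    have hzE : z ∈ E := ⟨hzP, hzc, hzo ▸ pow_orderOf_eq_one z⟩
    have hcom := h.commute_of_no_X Nat.prime_two (P.isPGroup'.to_le hEP) hEX hy hcop hzE
    conv_lhs => rw [← hee]
    calc g ^ e * g ^ e' * z * (g ^ e * g ^ e')⁻¹
        = g ^ e * (g ^ e' * z * (g ^ e')⁻¹) * (g ^ e)⁻¹ := by group
      _ = g ^ e * z * (g ^ e)⁻¹ := by rw [hcom.symm.eq]; group
      _ = z := by rw [← hzc _ hu]; group
  have hO : Cfsg.oddCore S = ⊥ := by
    refine ((inferInstance : (Cfsg.oddCore S).Normal).eq_bot_or_eq_top).resolve_right fun e => ?_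
    refine Core.not_dvd_card_pPrimeCore (p := 2) (G := S) ?_
    rw [show pPrimeCore 2 S = ⊤ from e, card_top]
    exact hev
  refine hz1 (mem_bot.1 (h.center_eq_bot ▸ mem_center_iff.2 fun g => ?_))
  have hzg := Invol.zstar hiso g
  rw [hO, mem_bot, mul_inv_eq_one, mul_inv_eq_iff_eq_mul] at hzg
  exact hzg.symm

end Cfsg.Agent.CommValues
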