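import Cfsg.Agent.CommValues.Setting
import Cfsg.Agent.Core.Zipper
import Cfsg.Agent.Core.Frattini
import Cfsg.Agent.FiniteChecks.Subnormal
import Cfsg.Agent.Fusion.Transfer

/-!
# Local structure of the simple section: every Sylow normalizer is maximal and its Sylow is TI
-/

set_option autoImplicit false

namespace Cfsg.Agent.CommValues

open Subgroup Cfsg
open scoped commutatorElement

universe u

variable {S : Type u} [Group S] [Finite S] (h : Setting S)

include h

theorem Setting.ne_top_of_isPGroup {p : ℕ} [Fact p.Prime] {Q : Subgroup S} (hQ : IsPGroup p Q) :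
    Q ≠ ⊤ := by
  rintro rfl
  have := hQ.isNilpotent
  exact h.not_solvable (Group.isSolvable_of_surjective (f := (Subgroup.subtype (⊤ : Subgroup S)))
    fun x => ⟨⟨x, mem_top x⟩, rfl⟩)

theorem Setting.normalizer_ne_top {Q : Subgroup S} (hb : Q ≠ ⊥) (ht : Q ≠ ⊤) :
    normalizer (Q : Set S) ≠ ⊤ := fun e => by
  have := h.simple
  rcases (normalizer_eq_top_iff.1 e).eq_bot_or_eq_top with h1 | h1
  · exact hb h1
  · exact ht h1

theorem Setting.commutator_eq_top : commutator S = ⊤ := by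
  have := h.simple
  rcases (inferInstance : (commutator S).Normal).eq_bot_or_eq_top with h1 | h1
  · exact absurd (Group.isSolvable_def S |>.2 ⟨1, by rw [derivedSeries_one, h1]⟩) h.not_solvable
  · exact h1

theorem Setting.center_eq_bot : center S = ⊥ := by
  have := h.simple
  rcases (inferInstance : (center S).Normal).eq_bot_or_eq_top with h1 | h1
  · exact h1
  · refine absurd (Group.isSolvable_def S |>.2 ⟨1, ?_⟩) h.not_solvable
    rw [derivedSeries_one, commutator_def, commutator_eq_bot_iff_le_centralizer]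
    intro a _
    exact mem_centralizer_iff.2 fun b _ =>
      (mem_center_iff.1 (h1 ▸ mem_top a : a ∈ center S) b)

theorem Setting.centralizer_ne_top {x : S} (hx : x ≠ 1) :
    centralizer ({x} : Set S) ≠ ⊤ := fun e => hx <| by
  have : x ∈ center S := mem_center_iff.2 fun g =>
    (mem_centralizer_singleton_iff.1 (e ▸ mem_top g : g ∈ centralizer ({x} : Set S)))
  rwa [h.center_eq_bot, mem_bot] at this

theorem Setting.normalizer_coatom {M : Subgroup S} (hM : IsCoatom M) (hb : M ≠ ⊥) :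
    normalizer (M : Set S) = M :=
  ((le_normalizer (H := M)).eq_or_lt.resolve_right fun hlt =>
    h.normalizer_ne_top hb hM.1 (hM.2 _ hlt)).symm

theorem Setting.isPGroup_zpowers {p : ℕ} {x : S} (hx : x ∈ h.X p) : IsPGroup p (zpowers x) := by
  obtain ⟨-, n, hn⟩ := h.x_spec p x hx
  intro y
  refine ⟨n, Subtype.ext ?_⟩
  obtain ⟨i, hi⟩ := mem_zpowers_iff.1 y.2
  rw [Subgroup.coe_pow, ← hi, ← zpow_natCast, ← zpow_mul, mul_comm, zpow_mul, zpow_natCast, hn,
    one_zpow, Subgroup.coe_one]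

/-- Every distinguished element lies in a unique maximal subgroup. -/
theorem Setting.exists_unique_coatom {p : ℕ} (hp : p.Prime) {x : S} (hx : x ∈ h.X p) :
    ∃ M : Subgroup S, IsCoatom M ∧ x ∈ M ∧ ∀ L : Subgroup S, IsCoatom L → x ∈ L → L = M := by
  have := Fact.mk hp
  have := h.simple
  have hsn : ¬ (zpowers x).IsSubnormal := fun hs => by
    rcases hs.eq_bot_or_top_of_isSimpleGroup h.simple with h1 | h1
    · exact (h.x_spec p x hx).1 (zpowers_eq_bot.1 h1)
    · exact h.ne_top_of_isPGroup (h.isPGroup_zpowers hx) h1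
  obtain ⟨M, hM, hxM, huniq⟩ := Core.exists_unique_coatom (zpowers x) hsn fun H hle hH => by
    have hxH : x ∈ H := hle (mem_zpowers x)
    obtain ⟨x', hx', hxx⟩ := h.x_local p hp H hH x hx hxH
    have hle' : (zpowers x).subgroupOf H ≤ pCore p H := by
      intro y hy
      obtain ⟨i, hi⟩ := mem_zpowers_iff.1 (mem_subgroupOf.1 hy)
      have : y = x' ^ i := Subtype.ext (by
        rw [← hi]
        simp only [SubgroupClass.coe_zpow]
        rw [show (x' : S) = x from hxx])
      rw [this]; exact zpow_mem hx' i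
    have := (Core.pCore_isPGroup (p := p) (G := H)).isNilpotent
    exact Subgroup.IsSubnormal.trans hle' (FiniteChecks.isSubnormal_nilpotent _)
      (show (pCore p H).Normal from inferInstance).isSubnormal
  exact ⟨M, hM, hxM (mem_zpowers x), fun L hL hxL => huniq L hL (zpowers_le.2 hxL)⟩

theorem Setting.conj_mem_unique {p : ℕ} (hp : p.Prime) {x g : S} (hx : x ∈ h.X p)
    {M : Subgroup S} (hM : IsCoatom M) (hxM : x ∈ M) (hgM : g * x * g⁻¹ ∈ M) : g ∈ M := by
  obtain ⟨M₀, -, -, huniq⟩ := h.exists_unique_coatom hp hx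
  have hM' : IsCoatom (M.comap (MulAut.conj g).toMonoidHom) := by
    refine ⟨fun e => hM.1 (comap_injective (MulAut.conj g).surjective (e.trans (comap_top _).symm)),
      fun L hL => ?_⟩
    have h1 : M < L.map (MulAut.conj g).toMonoidHom := by
      have := map_lt_map_iff_of_injective (f := (MulAut.conj g).toMonoidHom)
        (MulAut.conj g).injective |>.2 hL
      rwa [map_comap_eq_self_of_surjective (MulAut.conj g).surjective] at this
    have h2 := hM.2 _ h1
    exact eq_top_iff.2 fun y _ => by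
      obtain ⟨z, hz, hzy⟩ := (h2 ▸ mem_top ((MulAut.conj g).toMonoidHom y) :
        (MulAut.conj g).toMonoidHom y ∈ L.map (MulAut.conj g).toMonoidHom)
      rwa [← (MulAut.conj g).injective hzy]
  have heq : M.comap (MulAut.conj g).toMonoidHom = M :=
    (huniq _ hM' (by simpa using hgM)).trans (huniq _ hM hxM).symm
  have hb : M ≠ ⊥ := fun e => (h.x_spec p x hx).1 (by simpa [e] using hxM)
  have : g ∈ normalizer (M : Set S) := mem_normalizer_iff.2 fun y => by
    conv_lhs => rw [← heq]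
    simp
  rwa [h.normalizer_coatom hM hb] at this

/-- A `p'`-element normalizing a `p`-subgroup without distinguished elements centralizes it. -/
theorem Setting.commute_of_no_X {p : ℕ} (hp : p.Prime) {Q : Subgroup S} (hQ : IsPGroup p Q)
    (hX : ∀ w ∈ Q, w ∉ h.X p) {y : S} (hy : y ∈ normalizer (Q : Set S))
    (hyc : (orderOf y).Coprime p) {w : S} (hw : w ∈ Q) : Commute w y := by
  have := Fact.mk hp
  obtain ⟨z, hz, hzc, hzy, hit⟩ := h.lift p hp Q hQ y hy hyc
  obtain ⟨j, hj⟩ := IsPGroup.iff_card.1 hQ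
  have hzQ : ∀ v ∈ Q, Commute v z := by
    intro v hv
    obtain ⟨k, hk⟩ := hit v hv
    have hk1 := hk.resolve_right (hX _ (iterate_eng_mem hz hv k))
    refine commute_of_eng_eq_one (eng_eq_one_of_iterate hz ?_ k v hv hk1)
    rw [hj]; exact hzc.pow_right j
  suffices y = z by rw [this]; exact hzQ w hw
  set c := z⁻¹ * y with hc
  have hzy' : Commute z y := by
    have : y = z * c := by simp [hc]
    rw [this]
    exact (Commute.refl z).mul_right (hzQ c hzy).symm
  have h1 : orderOf c ∣ orderOf z * orderOf y := by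
    have := hzy'.inv_left.orderOf_mul_dvd_mul_orderOf
    rwa [orderOf_inv] at this
  have h2 : orderOf c ∣ p ^ j := hj ▸ orderOf_dvd_natCard Q hzy
  have h3 : orderOf c = 1 := by
    refine Nat.dvd_one.1 ?_
    rw [← ((hzc.mul_left hyc).pow_right j).gcd_eq_one]
    exact Nat.dvd_gcd h1 h2
  exact (inv_mul_eq_one.1 (orderOf_eq_one_iff.1 h3)).symm

omit h in
theorem mem_sylow_of_normalizes {p : ℕ} [Fact p.Prime] (P : Sylow p S) {g : S}
    (hg : g ∈ normalizer ((P : Subgroup S) : Set S)) (hgp : ∃ n, g ^ p ^ n = 1) :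
    g ∈ (P : Subgroup S) := by
  obtain ⟨n, hn⟩ := hgp
  have hz : IsPGroup p (zpowers g) := by
    intro y
    refine ⟨n, Subtype.ext ?_⟩
    obtain ⟨i, hi⟩ := mem_zpowers_iff.1 y.2
    rw [Subgroup.coe_pow, ← hi, ← zpow_natCast, ← zpow_mul, mul_comm, zpow_mul, zpow_natCast, hn,
      one_zpow, Subgroup.coe_one]
  have hsup := Invol.isPGroup_sup_of_le_normalizer hz P.isPGroup' (zpowers_le.2 hg)
  exact (P.is_maximal' hsup le_sup_right) ▸ mem_sup_left (mem_zpowers g)

/-- Fusion in a Sylow subgroup, modulo a subgroup capturing the fusion at distinguished elements. -/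
theorem Setting.fusion_mod {p : ℕ} [hp : Fact p.Prime] (P : Sylow p S) (N₀ : Subgroup S)
    (hX : ∀ T : Subgroup S, T ≤ P → (∃ x ∈ T, x ∈ h.X p) → ∀ g : S,
      (∀ t ∈ T, g * t * g⁻¹ ∈ (P : Subgroup S)) → ∀ a ∈ T, a⁻¹ * (g * a * g⁻¹) ∈ N₀)
    (hN : ∀ g ∈ normalizer ((P : Subgroup S) : Set S), ∀ a ∈ (P : Subgroup S),
      a⁻¹ * (g * a * g⁻¹) ∈ N₀) :
    ∀ (d : ℕ) (T : Subgroup S), T ≤ P → Nat.card (P : Subgroup S) ≤ Nat.card T + d → ∀ g : S,
      (∀ t ∈ T, g * t * g⁻¹ ∈ (P : Subgroup S)) → ∀ a ∈ T, a⁻¹ * (g * a * g⁻¹) ∈ N₀ := by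
  intro d
  induction d using Nat.strong_induction_on with
  | _ d ih =>
  intro T hT hd g hg a ha
  by_cases hex : ∃ x ∈ T, x ∈ h.X p
  · exact hX T hT hex g hg a ha
  push Not at hex
  rcases eq_or_ne T ⊥ with rfl | hb
  · rw [mem_bot.1 ha]; simp
  set T' := Fusion.conjSub g⁻¹ T with hT'
  have hT'P : T' ≤ P := fun v hv => by
    rw [hT', Fusion.mem_conjSub] at hv
    simpa [mul_assoc] using hg _ hv
  rcases hT.eq_or_lt with rfl | hlt
  · have : Fusion.conjSub g⁻¹ (P : Subgroup S) = P :=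
      eq_of_le_of_card_ge hT'P (le_of_eq (Fusion.card_conjSub _ _).symm)
    have hgN := inv_mem (Fusion.mem_normalizer_of_conjSub_eq this)
    rw [inv_inv] at hgN
    exact hN g hgN a ha
  have hlt' : T' < P := lt_of_le_of_ne hT'P fun e => hlt.ne (eq_of_le_of_card_ge hT
    (by rw [← e, hT', Fusion.card_conjSub]))
  set A := (P : Subgroup S) ⊓ normalizer (T : Set S) with hA
  have hTA : T < A := Fusion.lt_inf_normalizer_of_isPGroup P.isPGroup' hlt
  set B0 := (P : Subgroup S) ⊓ normalizer (T' : Set S) with hB0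
  have hT'B0 : T' < B0 := Fusion.lt_inf_normalizer_of_isPGroup P.isPGroup' hlt'
  set B := Fusion.conjSub g B0 with hB
  have hBN : B ≤ normalizer (T : Set S) := by
    intro v hv
    rw [hB, Fusion.mem_conjSub] at hv
    refine mem_normalizer_iff.2 fun w => ?_
    have := mem_normalizer_iff.1 hv.2 (g * w * g⁻¹)
    simp only [hT', Fusion.mem_conjSub, inv_inv] at this
    simpa [mul_assoc] using this
  have hTP : IsPGroup p T := P.isPGroup'.to_le hT
  set N := normalizer (T : Set S) with hN'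
  obtain ⟨U₀, hU₀⟩ := ((P.isPGroup'.to_le (inf_le_left : A ≤ P)).comap_subtype
    (K := N)).exists_le_sylow
  set U := (U₀ : Subgroup N).map N.subtype with hU
  have hUN : U ≤ N := map_subtype_le _
  have hUp : IsPGroup p U := U₀.isPGroup'.map _
  have hAU : A ≤ U := fun v hv =>
    ⟨⟨v, hv.2⟩, hU₀ (show (⟨v, hv.2⟩ : N) ∈ A.subgroupOf N from hv), rfl⟩
  have hUi : ¬ p ∣ U.relIndex N := by
    rw [hU, relIndex, subgroupOf, comap_map_eq_self_of_injective N.subtype_injective]
    exact U₀.not_dvd_index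
  obtain ⟨c, hc, hcle⟩ := Fusion.exists_conjSub_le_of_not_dvd_relIndex hUN hUp hUi hBN
    (Fusion.isPGroup_conjSub (P.isPGroup'.to_le inf_le_left))
  -- `c` can be taken in the centralizer of `T`
  obtain ⟨c₀, hc₀, u, hu, hcu⟩ : ∃ c₀ : S, (∀ t ∈ T, Commute c₀ t) ∧ ∃ u ∈ U, c = c₀ * u := by
    let C := (centralizer (T : Set S)).subgroupOf N
    have hCn : C.Normal := by
      refine ⟨fun v hv w => ?_⟩
      rw [mem_subgroupOf, mem_centralizer_iff] at hv ⊢
      intro t ht
      have ht' : (w : S)⁻¹ * t * w ∈ T := (mem_normalizer_iff''.1 w.2 t).1 ht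
      have := hv _ ht'
      simp only [Subgroup.coe_mul, Subgroup.coe_inv]
      calc t * ((w : S) * v * (w : S)⁻¹) = w * (((w : S)⁻¹ * t * w) * v) * (w : S)⁻¹ := by group
        _ = w * (v * ((w : S)⁻¹ * t * w)) * (w : S)⁻¹ := by rw [this]
        _ = (w : S) * v * (w : S)⁻¹ * t := by group
    have hq : IsPGroup p (N ⧸ C) := by
      intro q
      obtain ⟨v, rfl⟩ := QuotientGroup.mk_surjective q
      obtain ⟨e, e', hee, ⟨n, hn⟩, hcop, -⟩ := exists_parts v hp.out
      refine ⟨n, ?_⟩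
      have h1 : (QuotientGroup.mk (v ^ e') : N ⧸ C) = 1 := by
        rw [QuotientGroup.eq_one_iff, mem_subgroupOf, mem_centralizer_iff]
        intro t ht
        refine (h.commute_of_no_X hp.out hTP hex (v ^ e').2 ?_ ht).eq
        rwa [Subgroup.orderOf_coe]
      have h2 : (QuotientGroup.mk v : N ⧸ C) = QuotientGroup.mk (v ^ e) := by
        conv_lhs => rw [← hee]
        rw [QuotientGroup.mk_mul, h1, mul_one]
      rw [h2, ← QuotientGroup.mk_pow, orderOf_dvd_iff_pow_eq_one.1 hn, QuotientGroup.mk_one]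
    have hsurj := QuotientGroup.mk'_surjective C
    have htop : (⊤ : Subgroup (N ⧸ C)) = (U₀.mapSurjective hsurj : Subgroup (N ⧸ C)) :=
      (U₀.mapSurjective hsurj).is_maximal' (hq.to_subgroup ⊤) le_top
    have hmem : QuotientGroup.mk' C ⟨c, hc⟩ ∈ (U₀.mapSurjective hsurj : Subgroup (N ⧸ C)) :=
      htop ▸ mem_top _
    rw [Sylow.coe_mapSurjective] at hmem
    obtain ⟨u, hu, huc⟩ := hmem
    have hC : (⟨c, hc⟩ : N) * u⁻¹ ∈ C := by
      rw [← QuotientGroup.eq_one_iff]
      change QuotientGroup.mk' C ((⟨c, hc⟩ : N) * u⁻¹) = 1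
      rw [map_mul, map_inv, huc, mul_inv_cancel]
    refine ⟨c * (u : S)⁻¹, fun t ht => ?_, u, mem_map_of_mem _ hu, by simp⟩
    exact ((mem_centralizer_iff.1 (mem_subgroupOf.1 hC)) t ht).symm
  have hBU : ∀ v ∈ B, c₀⁻¹ * v * c₀ ∈ U := by
    intro v hv
    have h1 : c⁻¹ * v * c ∈ U := hcle (by rw [Fusion.mem_conjSub]; simpa [mul_assoc] using hv)
    have : c₀⁻¹ * v * c₀ = u * (c⁻¹ * v * c) * u⁻¹ := by rw [hcu]; group
    rw [this]
    exact mul_mem (mul_mem hu h1) (inv_mem hu)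
  obtain ⟨k, -, hk⟩ := Fusion.exists_conjSub_le_of_not_dvd_relIndex (N := ⊤) (le_top : (P : Subgroup S) ≤ ⊤)
    P.isPGroup' (by rw [relIndex_top_right]; exact P.not_dvd_index) (le_top : U ≤ ⊤) hUp
  have hkU : ∀ v ∈ U, k⁻¹ * v * k ∈ (P : Subgroup S) := fun v hv =>
    hk (by rw [Fusion.mem_conjSub]; simpa [mul_assoc] using hv)
  -- the two larger subgroups
  set b := k⁻¹ * a * k with hb'
  have hmain1 : a⁻¹ * (k⁻¹ * a * k⁻¹⁻¹) ∈ N₀ := by
    refine ih (d - 1) ?_ A inf_le_left ?_ k⁻¹ (fun t ht => by simpa using hkU t (hAU ht)) a (hTA.le ha)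
    · have := card_le_of_le hT
      have hcl : Nat.card T < Nat.card (P : Subgroup S) :=
        (card_le_of_le hT).lt_of_ne fun e => hlt.ne (eq_of_le_of_card_ge hT e.ge)
      omega
    · have : Nat.card T < Nat.card A :=
        (card_le_of_le hTA.le).lt_of_ne fun e => hTA.ne (eq_of_le_of_card_ge hTA.le e.ge)
      omega
  set A2 := Fusion.conjSub (c₀ * k) B with hA2
  have hA2P : A2 ≤ P := fun v hv => by
    rw [hA2, Fusion.mem_conjSub] at hv
    have := hkU _ (hBU _ hv)
    simpa [mul_assoc] using this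
  have hbA2 : b ∈ A2 := by
    rw [hA2, Fusion.mem_conjSub]
    have h1 : c₀ * k * b * (c₀ * k)⁻¹ = a := by
      rw [hb']
      calc c₀ * k * (k⁻¹ * a * k) * (c₀ * k)⁻¹ = c₀ * a * c₀⁻¹ := by group
        _ = a := by rw [(hc₀ a ha).eq]; group
    rw [h1, hB, Fusion.mem_conjSub]
    refine hT'B0.le ?_
    rw [hT', Fusion.mem_conjSub]
    simpa [mul_assoc] using ha
  have hmain2 : b⁻¹ * (g * c₀ * k * b * (g * c₀ * k)⁻¹) ∈ N₀ := by
    refine ih (d - 1) ?_ A2 hA2P ?_ (g * c₀ * k) (fun t ht => ?_) b hbA2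
    · have hcl : Nat.card T < Nat.card (P : Subgroup S) :=
        (card_le_of_le hT).lt_of_ne fun e => hlt.ne (eq_of_le_of_card_ge hT e.ge)
      omega
    · have h1 : Nat.card T' < Nat.card B0 :=
        (card_le_of_le hT'B0.le).lt_of_ne fun e => hT'B0.ne (eq_of_le_of_card_ge hT'B0.le e.ge)
      rw [hT', Fusion.card_conjSub] at h1
      rw [hA2, Fusion.card_conjSub, hB, Fusion.card_conjSub]
      omega
    · rw [hA2, Fusion.mem_conjSub, hB, Fusion.mem_conjSub] at ht
      have := ht.1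
      have : g * c₀ * k * t * (g * c₀ * k)⁻¹ ∈ ((P : Subgroup S) : Set S) := by
        simpa [mul_assoc] using this
      exact this
  have hfin : g * c₀ * k * b * (g * c₀ * k)⁻¹ = g * a * g⁻¹ := by
    rw [hb']
    calc g * c₀ * k * (k⁻¹ * a * k) * (g * c₀ * k)⁻¹ = g * (c₀ * a * c₀⁻¹) * g⁻¹ := by group
      _ = g * a * g⁻¹ := by rw [(hc₀ a ha).eq]; group
  rw [hfin] at hmain2
  have := mul_mem hmain1 hmain2
  rw [inv_inv, ← hb'] at this
  simpa [mul_assoc] using this

theorem Setting.sylow_le_of_fusion {p : ℕ} [hp : Fact p.Prime] (P : Sylow p S) (N₀ : Subgroup S)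
    (hX : ∀ T : Subgroup S, T ≤ P → (∃ x ∈ T, x ∈ h.X p) → ∀ g : S,
      (∀ t ∈ T, g * t * g⁻¹ ∈ (P : Subgroup S)) → ∀ a ∈ T, a⁻¹ * (g * a * g⁻¹) ∈ N₀)
    (hN : ∀ g ∈ normalizer ((P : Subgroup S) : Set S), ∀ a ∈ (P : Subgroup S),
      a⁻¹ * (g * a * g⁻¹) ∈ N₀) : (P : Subgroup S) ≤ N₀ := by
  have hfoc : focalSubgroup (P : Subgroup S) ≤ N₀ := by
    rw [focalSubgroup_def, closure_le]
    rintro _ ⟨hgP, x, hx, u, rfl⟩
    have hzP : zpowers x⁻¹ ≤ (P : Subgroup S) := zpowers_le.2 (inv_mem hx)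
    have h1 : u * x⁻¹ * u⁻¹ ∈ (P : Subgroup S) := by
      rw [show u * x⁻¹ * u⁻¹ = x⁻¹ * ⁅x, u⁆ by rw [commutatorElement_def]; group]
      exact mul_mem (inv_mem hx) hgP
    have h2 := h.fusion_mod P N₀ hX hN _ (zpowers x⁻¹) hzP (Nat.le_add_left _ _) u (fun t ht => by
      obtain ⟨i, rfl⟩ := mem_zpowers_iff.1 ht
      rw [← conj_zpow]; exact zpow_mem h1 i) x⁻¹ (mem_zpowers _)
    rw [inv_inv] at h2
    rw [commutatorElement_def]
    simpa [mul_assoc] using h2
  rwa [← commutator_inf_eq_focalSubgroup P, h.commutator_eq_top, top_inf_eq] at hfoc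

/-- Every Sylow subgroup contains a central distinguished element. -/
theorem Setting.exists_central {p : ℕ} [hp : Fact p.Prime] (P : Sylow p S)
    (hP : (P : Subgroup S) ≠ ⊥) :
    ∃ x ∈ (P : Subgroup S), x ∈ h.X p ∧ ∀ w ∈ (P : Subgroup S), Commute x w := by
  have hex : ∃ x ∈ (P : Subgroup S), x ∈ h.X p := by
    by_contra hno
    push Not at hno
    have hN : ∀ g ∈ normalizer ((P : Subgroup S) : Set S), ∀ a ∈ (P : Subgroup S),
        a⁻¹ * (g * a * g⁻¹) ∈ ⁅(P : Subgroup S), (P : Subgroup S)⁆ := by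
      intro g hg a ha
      obtain ⟨e, e', hee, ⟨n, hn⟩, hcop, -⟩ := exists_parts g hp.out
      have hu := mem_sylow_of_normalizes P (pow_mem hg e) ⟨n, orderOf_dvd_iff_pow_eq_one.1 hn⟩
      have hc := h.commute_of_no_X hp.out P.isPGroup' hno (pow_mem hg e') hcop ha
      have : g * a * g⁻¹ = g ^ e * a * (g ^ e)⁻¹ := by
        conv_lhs => rw [← hee]
        calc g ^ e * g ^ e' * a * (g ^ e * g ^ e')⁻¹
            = g ^ e * (g ^ e' * a * (g ^ e')⁻¹) * (g ^ e)⁻¹ := by group
          _ = _ := by rw [hc.symm.eq]; group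
      rw [this, show a⁻¹ * (g ^ e * a * (g ^ e)⁻¹) = ⁅a⁻¹, g ^ e⁆ by
        rw [commutatorElement_def]; group]
      exact commutator_mem_commutator (inv_mem ha) hu
    have hle := h.sylow_le_of_fusion P _
      (fun T hT ⟨x, hxT, hx⟩ => absurd hx (hno x (hT hxT))) hN
    have := P.isPGroup'.isNilpotent
    have hnt : Nontrivial (P : Subgroup S) := (nontrivial_iff_ne_bot _).2 hP
    have hlt : commutator (P : Subgroup S) < ⊤ :=
      Group.IsSolvable.commutator_lt_top_of_nontrivial _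
    have h1 := (map_subtype_lt_map_subtype (G' := (P : Subgroup S))).2 hlt
    rw [map_subtype_commutator, ← MonoidHom.range_eq_map, range_subtype] at h1
    exact h1.not_ge hle
  obtain ⟨x, hxP, hx⟩ := hex
  have := P.isPGroup'.isNilpotent
  obtain ⟨n, hn⟩ := Group.IsNilpotent.nilpotent (G := (P : Subgroup S))
  suffices H : ∀ (n : ℕ) (x : (P : Subgroup S)), x ∈ Subgroup.upperCentralSeries (P : Subgroup S) n →
      (x : S) ∈ h.X p →
      ∃ x ∈ (P : Subgroup S), x ∈ h.X p ∧ ∀ w ∈ (P : Subgroup S), Commute x w from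
    H n ⟨x, hxP⟩ (hn ▸ mem_top _) hx
  intro n
  induction n with
  | zero =>
    intro x hx0 hx
    rw [Subgroup.upperCentralSeries_zero, mem_bot] at hx0
    exact absurd (by rw [hx0]; rfl) (h.x_spec p x hx).1
  | succ n ih =>
    intro x hxn hx
    by_cases hc : ∀ w ∈ (P : Subgroup S), Commute (x : S) w
    · exact ⟨x, x.2, hx, hc⟩
    push Not at hc
    obtain ⟨w, hw, hwc⟩ := hc
    rcases h.x_comm p hp.out P P.isPGroup' x x.2 hx w hw with h1 | h1
    · exact absurd (commutatorElement_eq_one_iff_commute.1 h1) hwc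
    · exact ih ⁅x, ⟨w, hw⟩⁆ (Subgroup.mem_upperCentralSeries_succ_iff.1 hxn _)
        (by simpa [commutatorElement_def] using h1)

theorem Setting.sylow_ne_bot {p : ℕ} [hp : Fact p.Prime] (P : Sylow p S) (hd : p ∣ Nat.card S) :
    (P : Subgroup S) ≠ ⊥ := P.ne_bot_of_dvd_card hd

/-- The normalizer of a Sylow subgroup is the only maximal subgroup at its central element. -/
theorem Setting.sylow_structure {p : ℕ} [hp : Fact p.Prime] (P : Sylow p S)
    (hP : (P : Subgroup S) ≠ ⊥) :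
    IsCoatom (normalizer ((P : Subgroup S) : Set S)) ∧
      ∃ x ∈ (P : Subgroup S), x ∈ h.X p ∧ (∀ w ∈ (P : Subgroup S), Commute x w) ∧
        ∀ H : Subgroup S, H ≠ ⊤ → x ∈ H → H ≤ normalizer ((P : Subgroup S) : Set S) := by
  obtain ⟨x, hxP, hx, hxc⟩ := h.exists_central P hP
  obtain ⟨M, hM, hxM, huniq⟩ := h.exists_unique_coatom hp.out hx
  have hle : ∀ H : Subgroup S, H ≠ ⊤ → x ∈ H → H ≤ M := by
    intro H hH hxH
    obtain ⟨L, hL, hHL⟩ := (eq_top_or_exists_le_coatom H).resolve_left hH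
    exact huniq L hL (hHL hxH) ▸ hHL
  have hPM : (P : Subgroup S) ≤ M := hle _ (h.ne_top_of_isPGroup P.isPGroup') hxP
  set O := (pCore p M).map M.subtype with hO
  have hOP : O ≤ (P : Subgroup S) := by
    rintro _ ⟨v, hv, rfl⟩
    exact Core.pCore_le_sylow (P.subtype hPM) hv
  have hX : ∀ T : Subgroup S, T ≤ P → (∃ x ∈ T, x ∈ h.X p) → ∀ g : S,
      (∀ t ∈ T, g * t * g⁻¹ ∈ (P : Subgroup S)) → ∀ a ∈ T,
      a⁻¹ * (g * a * g⁻¹) ∈ ⁅(P : Subgroup S), (P : Subgroup S)⁆ ⊔ O := by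
    intro T hT ⟨x', hx'T, hx'⟩ g hg a ha
    have hgM : g ∈ M := h.conj_mem_unique hp.out hx' hM (hPM (hT hx'T)) (hPM (hg x' hx'T))
    have := h.nilq M hM.1
    let f := QuotientGroup.mk' (fittingSubgroup M)
    obtain ⟨e, e', hee, ⟨n, hn⟩, hcop, -⟩ := exists_parts (⟨g, hgM⟩ : M) hp.out
    set a' : M := ⟨a, hPM (hT ha)⟩
    obtain ⟨i, hi⟩ := P.isPGroup' ⟨a, hT ha⟩
    have hai : a' ^ p ^ i = 1 := Subtype.ext (by
      have := congrArg Subtype.val hi
      simpa using this)
    have hcomm : Commute (f ((⟨g, hgM⟩ : M) ^ e')) (f a') := by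
      refine commute_of_coprime (Nat.Coprime.coprime_dvd_left (orderOf_map_dvd f _)
        (Nat.Coprime.coprime_dvd_right
          ((orderOf_map_dvd f _).trans (orderOf_dvd_of_pow_eq_one hai)) (hcop.pow_right i)))
    have hsurj : Function.Surjective f := QuotientGroup.mk'_surjective _
    have hmem : f ((⟨g, hgM⟩ : M) ^ e) ∈
        ((P.subtype hPM).mapSurjective hsurj : Subgroup (M ⧸ fittingSubgroup M)) :=
      Core.pCore_le_sylow _ (mem_pCore_of_pow hp.out
        ⟨n, by rw [← map_pow, orderOf_dvd_iff_pow_eq_one.1 hn, map_one]⟩)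
    rw [Sylow.coe_mapSurjective] at hmem
    obtain ⟨u, huP, hue⟩ := hmem
    have huP' : (u : S) ∈ (P : Subgroup S) := huP
    set r : M := (u * a' * u⁻¹)⁻¹ * (⟨g, hgM⟩ * a' * (⟨g, hgM⟩ : M)⁻¹) with hr
    have hrF : r ∈ fittingSubgroup M := by
      rw [← QuotientGroup.eq_one_iff]
      change f r = 1
      have h1 : f (⟨g, hgM⟩ : M) = f u * f ((⟨g, hgM⟩ : M) ^ e') := by
        rw [hue, ← map_mul, hee]
      rw [hr]
      simp only [map_mul, map_inv, h1]
      calc (f u * f a' * (f u)⁻¹)⁻¹ *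
            (f u * f ((⟨g, hgM⟩ : M) ^ e') * f a' * (f u * f ((⟨g, hgM⟩ : M) ^ e'))⁻¹)
          = f u * ((f a')⁻¹ * (f ((⟨g, hgM⟩ : M) ^ e') * f a' * (f ((⟨g, hgM⟩ : M) ^ e'))⁻¹)) *
              (f u)⁻¹ := by group
        _ = 1 := by rw [hcomm.eq]; group
    have hrP : (r : S) ∈ (P : Subgroup S) := by
      simp only [hr, Subgroup.coe_mul, Subgroup.coe_inv]
      exact mul_mem (inv_mem (mul_mem (mul_mem huP' (hT ha)) (inv_mem huP'))) (hg a ha)
    obtain ⟨j, hj⟩ := P.isPGroup' ⟨r, hrP⟩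
    have hrO : (r : S) ∈ O := mem_map_of_mem _ (mem_pCore_of_mem_fitting hp.out
      ⟨j, Subtype.ext (by simpa using congrArg Subtype.val hj)⟩ hrF)
    have hsplit : a⁻¹ * (g * a * g⁻¹) = ⁅a⁻¹, (u : S)⁆ * (r : S) := by
      simp only [hr, a', Subgroup.coe_mul, Subgroup.coe_inv, commutatorElement_def]
      group
    rw [hsplit]
    exact mul_mem_sup (commutator_mem_commutator (inv_mem (hT ha)) huP') hrO
  have hN : ∀ g ∈ normalizer ((P : Subgroup S) : Set S), ∀ a ∈ (P : Subgroup S),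
      a⁻¹ * (g * a * g⁻¹) ∈ ⁅(P : Subgroup S), (P : Subgroup S)⁆ ⊔ O :=
    fun g hg => hX P le_rfl ⟨x, hxP, hx⟩ g fun t ht => (mem_normalizer_iff.1 hg t).1 ht
  have hPO : (P : Subgroup S) ≤ O := by
    have hle' := h.sylow_le_of_fusion P _ hX hN
    have := P.isPGroup'.isNilpotent
    have htop : O.subgroupOf (P : Subgroup S) ⊔ frattini (P : Subgroup S) = ⊤ := by
      refine eq_top_iff.2 fun w _ => ?_
      have hC : ⁅(P : Subgroup S), (P : Subgroup S)⁆.subgroupOf (P : Subgroup S) ≤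
          frattini (P : Subgroup S) := by
        refine le_trans (le_of_eq ?_) Core.commutator_le_frattini
        rw [← map_subtype_commutator, subgroupOf,
          comap_map_eq_self_of_injective (P : Subgroup S).subtype_injective]
      have hw : (w : S) ∈ ⁅(P : Subgroup S), (P : Subgroup S)⁆ ⊔ O := hle' w.2
      have : w ∈ (⁅(P : Subgroup S), (P : Subgroup S)⁆ ⊔ O).subgroupOf (P : Subgroup S) := hw
      rw [subgroupOf_sup (commutator_le_self _) hOP] at this
      exact (sup_le (le_sup_of_le_right hC) le_sup_left) this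
    exact subgroupOf_eq_top.1 (Core.eq_top_of_sup_frattini le_rfl htop)
  have hMN : M ≤ normalizer ((P : Subgroup S) : Set S) := by
    rw [show (P : Subgroup S) = O from le_antisymm hPO hOP, hO]
    refine le_trans ?_ (le_normalizer_map _)
    intro m hm
    exact ⟨⟨m, hm⟩, by rw [SetLike.mem_coe, normalizer_eq_top]; exact mem_top _, rfl⟩
  have heq : normalizer ((P : Subgroup S) : Set S) = M := by
    rcases hMN.eq_or_lt with e | hlt
    · exact e.symm
    · exact absurd (hM.2 _ hlt) (h.normalizer_ne_top hP (h.ne_top_of_isPGroup P.isPGroup'))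
  exact ⟨heq ▸ hM, x, hxP, hx, hxc, fun H hH hxH => heq ▸ hle H hH hxH⟩

theorem Setting.centralizer_le {p : ℕ} [hp : Fact p.Prime] (P : Sylow p S) {s : S}
    (hs : s ∈ (P : Subgroup S)) (hs1 : s ≠ 1) :
    centralizer ({s} : Set S) ≤ normalizer ((P : Subgroup S) : Set S) := by
  obtain ⟨-, x, -, -, hxc, hle⟩ := h.sylow_structure P fun e => hs1 (by simpa [e] using hs)
  exact hle _ (h.centralizer_ne_top hs1) (mem_centralizer_singleton_iff.2 (hxc s hs).eq)

/-- Sylow subgroups are TI. -/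
theorem Setting.sylow_eq_of_mem {p : ℕ} [hp : Fact p.Prime] (P Q : Sylow p S) {s : S}
    (hsP : s ∈ (P : Subgroup S)) (hsQ : s ∈ (Q : Subgroup S)) (hs1 : s ≠ 1) : P = Q := by
  obtain ⟨-, x, hxQ, hx, hxc, hle⟩ := h.sylow_structure Q fun e => hs1 (by simpa [e] using hsQ)
  obtain ⟨hM, x', hx'P, -, -, hle'⟩ := h.sylow_structure P fun e => hs1 (by simpa [e] using hsP)
  have hxN : x ∈ normalizer ((P : Subgroup S) : Set S) :=
    h.centralizer_le P hsP hs1 (mem_centralizer_singleton_iff.2 (hxc s hsQ).eq)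
  have hxP : x ∈ (P : Subgroup S) := mem_sylow_of_normalizes P hxN (h.x_spec p x hx).2
  have hPN : (P : Subgroup S) ≤ normalizer ((Q : Subgroup S) : Set S) :=
    hle _ (h.ne_top_of_isPGroup P.isPGroup') hxP
  refine Sylow.ext (eq_of_le_of_card_ge (fun w hw => ?_) (le_of_eq (Sylow.card_eq_multiplicity Q ▸
    (Sylow.card_eq_multiplicity P).symm)))
  obtain ⟨n, hn⟩ := P.isPGroup' ⟨w, hw⟩
  exact mem_sylow_of_normalizes Q (hPN hw) ⟨n, congrArg Subtype.val hn⟩

end Cfsg.Agent.CommValues
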