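import Cfsg.Agent.CommValues.Odd

/-!
# Nilpotency of a lower central term from the product-order condition
-/

set_option autoImplicit false

namespace Cfsg.Agent.CommValues

open Subgroup Cfsg

universe u

theorem isSolvable_of_cond {k : ℕ} : ∀ (n : ℕ) (G : Type u) [Group G] [Finite G],
    Nat.card G = n → Cond k G → Group.IsSolvable G := by
  intro n
  induction n using Nat.strong_induction_on with
  | _ n ih =>
    intro G _ _ hn hG
    by_contra hns
    obtain ⟨S, _, _, ⟨h⟩⟩ := exists_setting hG hns fun H hH =>
      ih _ (hn ▸ (card_le_card_group H).lt_of_ne fun e => hH (eq_top_of_card_eq H e)) H rfl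
        (hG.subgroup H)
    exact h.false

theorem lcs_nilpotent_iff {G : Type u} [Group G] [Finite G] (k : ℕ) :
    Group.IsNilpotent ↥((⊤ : Subgroup G).lowerCentralSeries k) ↔ Cond k G := by
  constructor
  · intro hnil x y hx hy hc
    right
    set L := (⊤ : Subgroup G).lowerCentralSeries k
    have h1 : Commute (⟨x, val_subset_lcs hx⟩ : L) ⟨y, val_subset_lcs hy⟩ :=
      commute_of_coprime (by rwa [← Subgroup.orderOf_coe, ← Subgroup.orderOf_coe])
    have h2 : Commute x y := congrArg Subtype.val h1.eq
    rw [h2.orderOf_mul_eq_mul_orderOf_of_coprime hc]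
  · intro hG
    have := isSolvable_of_cond _ G rfl hG
    exact Core.isNilpotent_mono (Core.fittingSubgroup_isNilpotent (G := G)) (lcs_le_fitting hG)

end Cfsg.Agent.CommValues
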