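import Cfsg.Agent.CommValues.Even
import Cfsg.Agent.OddLocal.CNTheorem
import Cfsg.Agent.Coprime.Generation
import Cfsg.Agent.Fusion.RankTwo
import Mathlib.GroupTheory.SpecificGroups.ZGroup

/-!
# The simple section does not exist: counting elements
-/

set_option autoImplicit false

namespace Cfsg.Agent.CommValues

open Subgroup Cfsg
open scoped commutatorElement

universe u

variable {S : Type u} [Group S] [Finite S] (h : Setting S)

/-- The Fitting subgroup of a subgroup, in the ambient group. -/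
def fitIn {S : Type u} [Group S] (M : Subgroup S) : Subgroup S :=
  (fittingSubgroup M).map M.subtype

omit [Finite S] in
theorem fitIn_le (M : Subgroup S) : fitIn M ≤ M := map_subtype_le _

omit [Finite S] in
theorem conj_mem_fitIn {M : Subgroup S} {g a : S} (hg : g ∈ M) (ha : a ∈ fitIn M) :
    g * a * g⁻¹ ∈ fitIn M := by
  obtain ⟨a', ha', rfl⟩ := ha
  exact ⟨_, Subgroup.Normal.conj_mem inferInstance a' ha' ⟨g, hg⟩, rfl⟩

theorem exists_sylow_mem {p : ℕ} [Fact p.Prime] {s : S} (hs : ∃ n, s ^ p ^ n = 1) :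
    ∃ Q : Sylow p S, s ∈ (Q : Subgroup S) := by
  obtain ⟨n, hn⟩ := hs
  have hz : IsPGroup p (zpowers s) := by
    intro y
    refine ⟨n, Subtype.ext ?_⟩
    obtain ⟨i, hi⟩ := mem_zpowers_iff.1 y.2
    rw [Subgroup.coe_pow, ← hi, ← zpow_natCast, ← zpow_mul, mul_comm, zpow_mul, zpow_natCast, hn,
      one_zpow, Subgroup.coe_one]
  obtain ⟨Q, hQ⟩ := hz.exists_le_sylow
  exact ⟨Q, hQ (mem_zpowers s)⟩

theorem exists_prime_pow_ne_one {g : S} (hg : g ≠ 1) :
    ∃ (p e : ℕ), p.Prime ∧ g ^ e ≠ 1 ∧ (g ^ e) ^ p = 1 := by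
  obtain ⟨p, hp, hd⟩ := Nat.exists_prime_and_dvd (fun e => hg (orderOf_eq_one_iff.1 e))
  refine ⟨p, orderOf g / p, hp, fun e => ?_, ?_⟩
  · have := orderOf_pow_orderOf_div (orderOf_pos g).ne' hd
    rw [e, orderOf_one] at this
    exact hp.one_lt.ne this
  · rw [← pow_mul, Nat.div_mul_cancel hd, pow_orderOf_eq_one]

theorem sylow_le_fitIn {p : ℕ} [Fact p.Prime] (Q : Sylow p S) :
    (Q : Subgroup S) ≤ fitIn (normalizer ((Q : Subgroup S) : Set S)) := by
  intro a ha
  set N := normalizer ((Q : Subgroup S) : Set S)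
  have hQN : (Q : Subgroup S) ≤ N := le_normalizer
  have hn : ((Q : Subgroup S).subgroupOf N).Normal :=
    (normal_subgroupOf_iff_le_normalizer hQN).2 le_rfl
  have hnil : Group.IsNilpotent ((Q : Subgroup S).subgroupOf N) :=
    (Group.isNilpotent_congr (subgroupOfEquivOfLe hQN)).2 Q.isPGroup'.isNilpotent
  exact ⟨⟨a, hQN ha⟩, Core.le_fittingSubgroup hnil ha, rfl⟩

omit [Finite S] in
theorem exists_mem_ne_one {H : Subgroup S} (hH : H ≠ ⊥) : ∃ x ∈ H, x ≠ 1 := by
  obtain ⟨x, hx⟩ := H.ne_bot_iff_exists_ne_one.1 hH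
  exact ⟨x, x.2, fun e => hx (Subtype.ext e)⟩

include h

theorem Setting.coatom_eq {M : Subgroup S} (hM : IsCoatom M) {p : ℕ} [hp : Fact p.Prime] {s : S}
    (hsF : s ∈ fitIn M) (hs1 : s ≠ 1) (Q : Sylow p S) (hsQ : s ∈ (Q : Subgroup S)) :
    M = normalizer ((Q : Subgroup S) : Set S) := by
  obtain ⟨s', hs', rfl⟩ := hsF
  obtain ⟨n, hn⟩ := Q.isPGroup' ⟨_, hsQ⟩
  have hs'' : s' ∈ pCore p M := mem_pCore_of_mem_fitting hp.out
    ⟨n, Subtype.ext (by simpa using congrArg Subtype.val hn)⟩ hs'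
  set A := (pCore p M).map M.subtype
  obtain ⟨Q₀, hQ₀⟩ := ((Core.pCore_isPGroup (p := p) (G := M)).map M.subtype).exists_le_sylow
  have hsA : (s' : S) ∈ A := mem_map_of_mem _ hs''
  have hQeq : Q = Q₀ := h.sylow_eq_of_mem Q Q₀ hsQ (hQ₀ hsA) hs1
  subst hQeq
  have hAb : A ≠ ⊥ := fun e => hs1 (mem_bot.1 (e ▸ hsA))
  have hAt : A ≠ ⊤ := h.ne_top_of_isPGroup ((Core.pCore_isPGroup (p := p) (G := M)).map _)
  have hMA : M ≤ normalizer (A : Set S) := by
    refine le_trans ?_ (le_normalizer_map _)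
    intro m hm
    exact ⟨⟨m, hm⟩, by rw [SetLike.mem_coe, normalizer_eq_top]; exact mem_top _, rfl⟩
  obtain ⟨hN, x, hxQ, -, hxc, hle⟩ := h.sylow_structure Q
    fun e => hs1 (by simpa [e] using hsQ)
  have hxA : x ∈ normalizer (A : Set S) := mem_normalizer_iff.2 fun w => by
    constructor
    · intro hw; rw [(hxc w (hQ₀ hw)).eq, mul_inv_cancel_right]; exact hw
    · intro hw
      have := (hxc _ (hQ₀ hw)).eq
      have e : x * w * x⁻¹ = w := by
        have h1 : x * (x * w * x⁻¹) = x * w := by rw [this]; group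
        exact mul_left_cancel h1
      rwa [e] at hw
  have hle' : normalizer (A : Set S) ≤ normalizer ((Q : Subgroup S) : Set S) :=
    hle _ (h.normalizer_ne_top hAb hAt) hxA
  rcases (hMA.trans hle').eq_or_lt with e | hlt
  · exact e
  · exact absurd (hM.2 _ hlt) hN.1

theorem Setting.fitIn_eq_of_mem {M M' : Subgroup S} (hM : IsCoatom M) (hM' : IsCoatom M') {a : S}
    (ha : a ∈ fitIn M) (ha' : a ∈ fitIn M') (ha1 : a ≠ 1) : M = M' := by
  obtain ⟨p, e, hp, hne, hpe⟩ := exists_prime_pow_ne_one ha1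
  have := Fact.mk hp
  obtain ⟨Q, hQ⟩ := exists_sylow_mem (p := p) ⟨1, by rw [pow_one]; exact hpe⟩
  rw [h.coatom_eq hM (pow_mem ha e) hne Q hQ, h.coatom_eq hM' (pow_mem ha' e) hne Q hQ]

theorem Setting.centralizer_le_coatom {M : Subgroup S} (hM : IsCoatom M) {a : S}
    (ha : a ∈ fitIn M) (ha1 : a ≠ 1) : centralizer ({a} : Set S) ≤ M := by
  obtain ⟨p, e, hp, hne, hpe⟩ := exists_prime_pow_ne_one ha1
  have := Fact.mk hp
  obtain ⟨Q, hQ⟩ := exists_sylow_mem (p := p) ⟨1, by rw [pow_one]; exact hpe⟩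
  rw [h.coatom_eq hM (pow_mem ha e) hne Q hQ]
  intro c hc
  refine h.centralizer_le Q hQ hne (mem_centralizer_singleton_iff.2 ?_)
  exact (show Commute c a from mem_centralizer_singleton_iff.1 hc).pow_right e

theorem Setting.mem_fitIn_of_prime_dvd {M : Subgroup S} (hM : IsCoatom M) {p : ℕ} (hp : p.Prime)
    (hd : p ∣ Nat.card (fitIn M)) {g : S} (hgM : g ∈ M) (hg : ∃ n, g ^ p ^ n = 1) :
    g ∈ fitIn M := by
  have := Fact.mk hp
  obtain ⟨s, hs⟩ := exists_prime_orderOf_dvd_card' (G := fitIn M) p hd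
  have hso : orderOf (s : S) = p := by rw [Subgroup.orderOf_coe, hs]
  obtain ⟨Q, hQ⟩ := exists_sylow_mem (p := p) (s := (s : S))
    ⟨1, by rw [pow_one]; exact hso ▸ pow_orderOf_eq_one _⟩
  have hne : (s : S) ≠ 1 := fun e => hp.one_lt.ne (by rw [← hso, e, orderOf_one])
  have heq := h.coatom_eq hM s.2 hne Q hQ
  rw [heq]
  exact sylow_le_fitIn Q (mem_sylow_of_normalizes Q (heq ▸ hgM) hg)

theorem Setting.conj_fit_mem {M : Subgroup S} (hM : IsCoatom M) {g a : S} (ha : a ∈ fitIn M)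
    (hga : g * a * g⁻¹ ∈ fitIn M) (ha1 : a ≠ 1) : g ∈ M := by
  obtain ⟨p, e, hp, hne, hpe⟩ := exists_prime_pow_ne_one ha1
  have := Fact.mk hp
  obtain ⟨Q, hQ⟩ := exists_sylow_mem (p := p) ⟨1, by rw [pow_one]; exact hpe⟩
  have heq := h.coatom_eq hM (pow_mem ha e) hne Q hQ
  have heq' := h.coatom_eq hM (p := p) (pow_mem hga e)
    (by rw [conj_pow, Ne, conj_eq_one_iff]; exact hne) (g • Q) ⟨a ^ e, hQ, by simp [conj_pow]⟩
  obtain ⟨-, x, hxQ, hx, -, -⟩ := h.sylow_structure Q fun e' => hne (by simpa [e'] using hQ)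
  refine h.conj_mem_unique hp hx hM (heq ▸ le_normalizer hxQ) (heq' ▸ le_normalizer ?_)
  exact ⟨x, hxQ, rfl⟩

theorem Setting.fitIn_ne_bot {M : Subgroup S} (hM : IsCoatom M) : fitIn M ≠ ⊥ := by
  have := h.solv M hM.1
  have : Nontrivial M := by
    rw [nontrivial_iff_ne_bot]
    rintro rfl
    have := h.simple
    obtain ⟨g, hg⟩ := exists_ne (1 : S)
    have hc : IsCyclic S := isCyclic_iff_exists_zpowers_eq_top.2
      ⟨g, hM.2 _ (bot_lt_iff_ne_bot.2 fun e => hg (zpowers_eq_bot.1 e))⟩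
    exact h.not_solvable (Group.isSolvable_of_comm IsCyclic.commGroup.mul_comm)
  exact fun e => Core.fittingSubgroup_ne_bot (G := M)
    ((map_eq_bot_iff_of_injective _ M.subtype_injective).1 e)

theorem Setting.sylow_isCyclic {M : Subgroup S} (hM : IsCoatom M) {q : ℕ} [hq : Fact q.Prime]
    (hqF : ¬ q ∣ Nat.card (fitIn M)) {T : Subgroup S} (hT : IsPGroup q T) (hTM : T ≤ M) :
    IsCyclic T := by
  by_contra hnc
  have hq2 : q ≠ 2 := fun e => by
    subst e
    obtain ⟨n, hn⟩ := IsPGroup.iff_card.1 hT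
    rcases n with _ | n
    · exact hnc (by
        have : Subsingleton T := (Nat.card_eq_one_iff_unique.1 (by rw [hn, pow_zero])).1
        infer_instance)
    · exact h.odd_card.not_two_dvd_nat
        (((dvd_pow_self 2 n.succ_ne_zero).trans hn.symm.dvd).trans (card_subgroup_dvd_card T))
  obtain ⟨A, -, hAe, hAc⟩ := Fusion.exists_normal_elementary_card_sq hq2 hT hnc
  set V := A.map T.subtype with hV
  have hVc : Nat.card V = q ^ 2 := by rw [hV, card_map_of_injective T.subtype_injective, hAc]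
  have hVab : IsMulCommutative V := by
    have := hAe.1
    exact Subgroup.map_isMulCommutative _ _
  have hVexp : ∀ a ∈ V, a ^ q = 1 := by
    rintro _ ⟨a, ha, rfl⟩
    rw [← map_pow, hAe.2 a ha, map_one]
  have hVnc : ¬ IsCyclic V := fun hc => by
    obtain ⟨a, ha⟩ := hc.exists_ofOrder_eq_natCard
    have : orderOf a ∣ q := orderOf_dvd_of_pow_eq_one (Subtype.ext (hVexp a a.2))
    rw [ha, hVc] at this
    have h2 := Nat.le_of_dvd hq.out.pos this
    nlinarith [hq.out.two_le]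
  -- a Sylow subgroup inside the Fitting subgroup
  obtain ⟨a₀, ha₀, ha₀1⟩ := exists_mem_ne_one (h.fitIn_ne_bot hM)
  obtain ⟨p, e, hp, hne, hpe⟩ := exists_prime_pow_ne_one ha₀1
  have := Fact.mk hp
  obtain ⟨P, hP⟩ := exists_sylow_mem (p := p) ⟨1, by rw [pow_one]; exact hpe⟩
  have hMP := h.coatom_eq hM (pow_mem ha₀ e) hne P hP
  obtain ⟨-, x, hxP, -, hxc, hle⟩ := h.sylow_structure P fun e' => hne (by simpa [e'] using hP)
  set K := (center (P : Subgroup S)).map (P : Subgroup S).subtype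
  have hVM : V ≤ M := (map_subtype_le A).trans hTM
  have hVK : V ≤ normalizer (K : Set S) :=
    hVM.trans (hMP.le.trans fun g hg => Invol.mem_normalizer_of_conj_le (by
      rintro _ ⟨_, ⟨c, hc, rfl⟩, rfl⟩
      refine ⟨⟨g * (c : S) * g⁻¹, (mem_normalizer_iff.1 hg _).1 c.2⟩, mem_center_iff.2 fun w => ?_, rfl⟩
      refine Subtype.ext ?_
      have h1 := congrArg Subtype.val
        (mem_center_iff.1 hc ⟨g⁻¹ * (w : S) * g, (mem_normalizer_iff''.1 hg _).1 w.2⟩)
      simp only [Subgroup.coe_mul] at h1 ⊢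
      calc (w : S) * (g * c * g⁻¹) = g * ((g⁻¹ * w * g) * c) * g⁻¹ := by group
        _ = g * (c * (g⁻¹ * w * g)) * g⁻¹ := by rw [h1]
        _ = g * c * g⁻¹ * w := by group))
  have hpF : p ∣ Nat.card (fitIn M) := by
    have := orderOf_dvd_natCard (fitIn M) (pow_mem ha₀ e)
    rwa [orderOf_eq_prime hpe hne] at this
  have hcop : (Nat.card V).Coprime (Nat.card K) := by
    obtain ⟨j, hj⟩ := IsPGroup.iff_card.1
      ((P.isPGroup'.to_subgroup (center (P : Subgroup S))).map (P : Subgroup S).subtype)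
    rw [hVc, show Nat.card K = p ^ j from hj]
    exact ((Nat.coprime_primes hq.out hp).2 fun e' => hqF (e' ▸ hpF)).pow 2 j
  have hVq : IsPGroup q V := IsPGroup.of_card hVc
  obtain ⟨Q, hQ⟩ := hVq.exists_le_sylow
  have hQb : (Q : Subgroup S) ≠ ⊥ := fun e' => by
    have : V = ⊥ := le_bot_iff.1 (e' ▸ hQ)
    rw [this, card_bot] at hVc
    exact (Nat.one_lt_pow two_ne_zero hq.out.one_lt).ne hVc
  have hKQ : K ≤ normalizer ((Q : Subgroup S) : Set S) := by
    rw [← Coprime.iSup_centralizer_eq hVnc hVK hcop]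
    exact iSup₂_le fun v hv => inf_le_right.trans (h.centralizer_le Q (hQ hv.1) hv.2)
  have hxK : x ∈ K := ⟨⟨x, hxP⟩, mem_center_iff.2 fun w => Subtype.ext (hxc w w.2).symm.eq, rfl⟩
  have hQt : normalizer ((Q : Subgroup S) : Set S) ≠ ⊤ := (h.sylow_structure Q hQb).1.1
  have hle2 := hle _ hQt (hKQ hxK)
  have heq : normalizer ((Q : Subgroup S) : Set S) = M := by
    rw [hMP]
    rcases hle2.eq_or_lt with e' | hlt
    · exact e'
    · exact absurd ((h.sylow_structure Q hQb).1.2 _ hlt)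
        (hMP ▸ hM.1)
  refine hqF ?_
  have hcard := card_dvd_of_le (hQ.trans (sylow_le_fitIn Q))
  rw [hVc, heq] at hcard
  exact (dvd_pow_self q two_ne_zero).trans hcard

theorem Setting.commutator_mem_fitIn {M : Subgroup S} (hM : IsCoatom M) {a b : S} (ha : a ∈ M)
    (hb : b ∈ M) : ⁅a, b⁆ ∈ fitIn M := by
  have := h.nilq M hM.1
  let f := QuotientGroup.mk' (fittingSubgroup M)
  have hsurj : Function.Surjective f := QuotientGroup.mk'_surjective _
  have hZ : IsZGroup (M ⧸ fittingSubgroup M) := by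
    refine ⟨fun q hq Q => ?_⟩
    have := Fact.mk hq
    obtain ⟨P'⟩ := (inferInstance : Nonempty (Sylow q M))
    suffices hc : IsCyclic (P'.mapSurjective hsurj : Subgroup (M ⧸ fittingSubgroup M)) from
      (Sylow.equiv (P'.mapSurjective hsurj) Q).isCyclic.1 hc
    by_cases hqF : q ∣ Nat.card (fitIn M)
    · have hbot : (P'.mapSurjective hsurj : Subgroup (M ⧸ fittingSubgroup M)) = ⊥ := by
        rw [Sylow.coe_mapSurjective, Subgroup.map_eq_bot_iff, QuotientGroup.ker_mk']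
        intro w hw
        obtain ⟨n, hn⟩ := P'.isPGroup' ⟨w, hw⟩
        have hwn : (w : S) ^ q ^ n = 1 := by
          have := congrArg (fun z : (P' : Subgroup M) => ((z : M) : S)) hn
          simpa using this
        obtain ⟨w', hw', hww⟩ := h.mem_fitIn_of_prime_dvd hM hq hqF w.2 ⟨n, hwn⟩
        rwa [← M.subtype_injective (show M.subtype w' = M.subtype w from hww)]
      rw [hbot]; infer_instance
    · have hcy : IsCyclic ((P' : Subgroup M).map M.subtype : Subgroup S) :=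
        h.sylow_isCyclic hM hqF (P'.isPGroup'.map _) (map_subtype_le _)
      have hcy' : IsCyclic (P' : Subgroup M) :=
        ((P' : Subgroup M).equivMapOfInjective M.subtype M.subtype_injective).isCyclic.2 hcy
      rw [Sylow.coe_mapSurjective]
      exact isCyclic_of_surjective (f.subgroupMap (P' : Subgroup M))
        (MonoidHom.subgroupMap_surjective f _)
  have hcyc : IsCyclic (M ⧸ fittingSubgroup M) := inferInstance
  have h1 : f ⁅(⟨a, ha⟩ : M), (⟨b, hb⟩ : M)⁆ = 1 := by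
    rw [map_commutatorElement, commutatorElement_eq_one_iff_commute]
    exact hcyc.commGroup.mul_comm _ _
  exact ⟨⁅(⟨a, ha⟩ : M), (⟨b, hb⟩ : M)⁆, (QuotientGroup.eq_one_iff _).1 h1,
    by simp [commutatorElement_def]⟩

theorem Setting.commute_inf {M M' : Subgroup S} (hM : IsCoatom M) (hM' : IsCoatom M')
    (hne : M ≠ M') {a b : S} (ha : a ∈ M ⊓ M') (hb : b ∈ M ⊓ M') : Commute a b := by
  rw [← commutatorElement_eq_one_iff_commute]
  by_contra hc
  exact hne (h.fitIn_eq_of_mem hM hM' (h.commutator_mem_fitIn hM ha.1 hb.1)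
    (h.commutator_mem_fitIn hM' ha.2 hb.2) hc)

theorem Setting.card_inter {M M' : Subgroup S} (hM : IsCoatom M) (hM' : IsCoatom M') {q : ℕ}
    (hq : q.Prime) {v : S} (hvq : ∃ n, v ^ q ^ n = 1) (hvM : v ∈ M) (hvF : v ∉ fitIn M)
    (hvF' : v ∈ fitIn M') :
    Nat.card (M ⊓ M' : Subgroup S) * Nat.card (fitIn M) =
      Nat.card (fitIn M ⊓ M' : Subgroup S) * Nat.card M := by
  have := Fact.mk hq
  have hv1 : v ≠ 1 := fun e => hvF (e ▸ one_mem _)
  have hqF : ¬ q ∣ Nat.card (fitIn M) := fun hd => hvF (h.mem_fitIn_of_prime_dvd hM hq hd hvM hvq)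
  set v' : M := ⟨v, hvM⟩ with hv'
  set F := fittingSubgroup M with hF
  set K := F ⊔ zpowers v' with hK
  have hKn : K.Normal := by
    refine ⟨fun w hw g => ?_⟩
    obtain ⟨c, hc, hcc⟩ := h.commutator_mem_fitIn hM g.2 w.2
    have he : g * w * g⁻¹ = c * w := by
      refine Subtype.ext ?_
      simp only [Subgroup.coe_mul, Subgroup.coe_inv]
      rw [show (c : S) = ⁅(g : S), (w : S)⁆ from hcc, commutatorElement_def]
      group
    rw [he]
    exact mul_mem (mem_sup_left hc) hw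
  have hzK : zpowers v' ≤ K := le_sup_right
  obtain ⟨n, hn⟩ := hvq
  have hzp : IsPGroup q (zpowers v') := by
    intro y
    refine ⟨n, Subtype.ext ?_⟩
    obtain ⟨i, hi⟩ := mem_zpowers_iff.1 y.2
    have hn' : v' ^ q ^ n = 1 := Subtype.ext (by simpa [hv'] using hn)
    rw [Subgroup.coe_pow, ← hi, ← zpow_natCast, ← zpow_mul, mul_comm, zpow_mul, zpow_natCast, hn',
      one_zpow, Subgroup.coe_one]
  have hFc : Nat.card F = Nat.card (fitIn M) :=
    (card_map_of_injective M.subtype_injective).symm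
  have hidx : ¬ q ∣ (zpowers v').relIndex K := by
    intro hd
    have h1 : Nat.card (zpowers v') * (zpowers v').relIndex K = Nat.card K := by
      rw [relIndex, ← Nat.card_congr (subgroupOfEquivOfLe hzK).toEquiv]
      exact card_mul_index _
    have h2 : Nat.card K ∣ Nat.card (zpowers v') * Nat.card F := by
      rw [hK, sup_comm]
      exact Layer.card_sup_dvd_of_le_normalizer (by rw [normalizer_eq_top]; exact le_top)
    rw [← h1] at h2
    exact hqF (hFc ▸ hd.trans (Nat.dvd_of_mul_dvd_mul_left Nat.card_pos h2))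
  -- every element is a product of a Fitting element and an element centralizing `v`
  have hprod : ∀ m : M, ∃ c : M, Commute (c : S) v ∧ m * c⁻¹ ∈ F := by
    intro m
    obtain ⟨κ, hκ, hle⟩ := Fusion.exists_conjSub_le_of_not_dvd_relIndex hzK hzp hidx
      (T := Fusion.conjSub m (zpowers v'))
      (fun w hw => by
        rw [Fusion.mem_conjSub] at hw
        have := hKn.conj_mem _ (hzK hw) m⁻¹
        simpa [mul_assoc] using this)
      (Fusion.isPGroup_conjSub hzp)
    have hmem : (m * κ)⁻¹ * v' * (m * κ) ∈ zpowers v' := hle (by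
      rw [Fusion.mem_conjSub, Fusion.mem_conjSub]
      simp [mul_assoc])
    have hcomm : Commute ((m * κ : M) : S) v := by
      obtain ⟨c, hc, hcc⟩ := h.commutator_mem_fitIn hM (m * κ)⁻¹.2 hvM
      have he : c = (m * κ)⁻¹ * v' * (m * κ) * v'⁻¹ := by
        refine Subtype.ext ?_
        rw [show (c : S) = _ from hcc, commutatorElement_def]
        simp [hv', mul_assoc]
      have hc1 : c = 1 := by
        have hcz : c ∈ zpowers v' := he ▸ mul_mem hmem (inv_mem (mem_zpowers v'))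
        obtain ⟨j, hj⟩ := hzp ⟨c, hcz⟩
        have h3 : orderOf c ∣ q ^ j := orderOf_dvd_of_pow_eq_one (congrArg Subtype.val hj)
        refine orderOf_eq_one_iff.1 (Nat.dvd_one.1 ?_)
        rw [← ((hq.coprime_iff_not_dvd.2 (fun hd => hqF (hFc ▸ hd))).pow_left j).gcd_eq_one]
        exact Nat.dvd_gcd h3 (orderOf_dvd_natCard F hc)
      rw [he, mul_inv_eq_one] at hc1
      have h4 := congrArg (fun z : M => (z : S)) hc1
      simp only [Subgroup.coe_mul, Subgroup.coe_inv, hv'] at h4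
      change ((m * κ : M) : S) * v = v * ((m * κ : M) : S)
      rw [Subgroup.coe_mul]
      calc (m : S) * κ * v = (m : S) * κ * (((m : S) * κ)⁻¹ * v * ((m : S) * κ)) := by rw [h4]
        _ = v * ((m : S) * κ) := by group
    obtain ⟨c, hc, z, hz, rfl⟩ := mem_sup_of_normal_left.1 hκ
    refine ⟨m * (c * z) * z⁻¹, ?_, ?_⟩
    · have hzv : Commute (z : S) v := by
        obtain ⟨i, rfl⟩ := mem_zpowers_iff.1 hz
        simp only [SubgroupClass.coe_zpow, hv']
        exact (Commute.refl v).zpow_left i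
      rw [Subgroup.coe_mul, Subgroup.coe_inv]
      exact hcomm.mul_left hzv.inv_left
    · rw [show m * (m * (c * z) * z⁻¹)⁻¹ = m * c⁻¹ * m⁻¹ by group]
      exact Subgroup.Normal.conj_mem inferInstance _ (inv_mem hc) m
  let φ : (M ⊓ M' : Subgroup S) →* M ⧸ F :=
    (QuotientGroup.mk' F).comp (Subgroup.inclusion inf_le_left)
  have hφ : Function.Surjective φ := by
    intro z
    obtain ⟨m, rfl⟩ := QuotientGroup.mk'_surjective F z
    obtain ⟨c, hcv, hmc⟩ := hprod m
    have hcM' : (c : S) ∈ M' :=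
      h.centralizer_le_coatom hM' hvF' hv1 (mem_centralizer_singleton_iff.2 hcv.eq)
    refine ⟨⟨c, c.2, hcM'⟩, ?_⟩
    have : (QuotientGroup.mk' F) (m * c⁻¹) = 1 := (QuotientGroup.eq_one_iff _).2 hmc
    rw [map_mul, map_inv, mul_inv_eq_one] at this
    exact this.symm
  have hker : Nat.card φ.ker = Nat.card (fitIn M ⊓ M' : Subgroup S) := by
    refine Nat.card_congr
      { toFun := fun w => ⟨(w.1 : S), ⟨⟨(w.1 : S), w.1.2.1⟩,
          (QuotientGroup.eq_one_iff _).1 w.2, rfl⟩, w.1.2.2⟩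
        invFun := fun w => ⟨⟨w.1, fitIn_le M w.2.1, w.2.2⟩, by
          obtain ⟨c, hc, hcc⟩ := w.2.1
          refine (QuotientGroup.eq_one_iff _).2 ?_
          have he : c = Subgroup.inclusion inf_le_left
              (⟨w.1, fitIn_le M w.2.1, w.2.2⟩ : (M ⊓ M' : Subgroup S)) := Subtype.ext hcc
          rwa [← he]⟩
        left_inv := fun w => rfl
        right_inv := fun w => rfl }
  have h5 : Nat.card (M ⊓ M' : Subgroup S) = Nat.card (M ⧸ F) * Nat.card φ.ker := by
    rw [Subgroup.card_eq_card_quotient_mul_card_subgroup φ.ker,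
      Nat.card_congr (QuotientGroup.quotientKerEquivOfSurjective φ hφ).toEquiv]
  have h6 := Subgroup.card_eq_card_quotient_mul_card_subgroup F
  rw [h5, h6, hker, hFc]
  ring

omit h in
theorem card_conjSet (A : Set S) (H : Subgroup S) (hst : ∀ x ∈ H, ∀ a ∈ A, x * a * x⁻¹ ∈ A)
    (hTI : ∀ a ∈ A, ∀ g : S, g * a * g⁻¹ ∈ A → g ∈ H) :
    Set.ncard {y : S | ∃ g : S, g⁻¹ * y * g ∈ A} = H.index * A.ncard := by
  rw [← Nat.card_coe_set_eq, ← Nat.card_coe_set_eq, Subgroup.index, ← Nat.card_prod]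
  symm
  refine Nat.card_eq_of_bijective (fun z : (S ⧸ H) × A =>
    (⟨z.1.out * (z.2 : S) * z.1.out⁻¹, z.1.out, by simpa [mul_assoc] using z.2.2⟩ :
      {y : S | ∃ g : S, g⁻¹ * y * g ∈ A})) ⟨?_, ?_⟩
  · rintro ⟨c₁, a₁⟩ ⟨c₂, a₂⟩ he
    have he' : c₁.out * (a₁ : S) * c₁.out⁻¹ = c₂.out * (a₂ : S) * c₂.out⁻¹ := congrArg Subtype.val he
    have hg : (c₂.out⁻¹ * c₁.out) * (a₁ : S) * (c₂.out⁻¹ * c₁.out)⁻¹ = a₂ := by
      calc (c₂.out⁻¹ * c₁.out) * (a₁ : S) * (c₂.out⁻¹ * c₁.out)⁻¹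
          = c₂.out⁻¹ * (c₁.out * (a₁ : S) * c₁.out⁻¹) * c₂.out := by group
        _ = a₂ := by rw [he']; group
    have hH := hTI _ a₁.2 _ (hg ▸ a₂.2)
    have hc : c₂ = c₁ := by
      rw [← QuotientGroup.out_eq' c₁, ← QuotientGroup.out_eq' c₂]
      exact QuotientGroup.eq.2 hH
    subst hc
    exact Prod.ext rfl (Subtype.ext (mul_left_cancel (mul_right_cancel he')))
  · rintro ⟨y, g, hg⟩
    set o := (QuotientGroup.mk g : S ⧸ H).out
    have hH : o⁻¹ * g ∈ H := QuotientGroup.eq.1 (QuotientGroup.out_eq' _)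
    refine ⟨⟨QuotientGroup.mk g, ⟨o⁻¹ * y * o, ?_⟩⟩, Subtype.ext ?_⟩
    · have := hst _ hH _ hg
      simpa [mul_assoc] using this
    · change o * (o⁻¹ * y * o) * o⁻¹ = y
      group

/-- No such simple section exists. -/
theorem Setting.false : False := by
  classical
  have := Fintype.ofFinite S
  have hodd := h.odd_card
  -- there is a mixed element, as the group is not a CN-group
  obtain ⟨M, hM, s, hsF, hs1, ⟨p, hp, hsp⟩, v, hsv, hvF, q, hq, hvq⟩ :
      ∃ M : Subgroup S, IsCoatom M ∧ ∃ s ∈ fitIn M, s ≠ 1 ∧ (∃ p : ℕ, p.Prime ∧ ∃ n, s ^ p ^ n = 1) ∧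
        ∃ v : S, Commute v s ∧ v ∉ fitIn M ∧ ∃ q : ℕ, q.Prime ∧ ∃ n, v ^ q ^ n = 1 := by
    by_contra hno
    push Not at hno
    refine h.not_solvable (OddLocal.CN.isSolvable_of_isCNGroup _ S rfl hodd fun g hg => ?_)
    obtain ⟨p, e, hp, hne, hpe⟩ := exists_prime_pow_ne_one hg
    have := Fact.mk hp
    obtain ⟨Q, hQ⟩ := exists_sylow_mem (p := p) ⟨1, by rw [pow_one]; exact hpe⟩
    have hM := (h.sylow_structure Q fun e' => hne (by simpa [e'] using hQ)).1
    set M := normalizer ((Q : Subgroup S) : Set S)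
    have hle : centralizer ({g} : Set S) ≤ fitIn M := by
      intro c hc
      refine mem_of_parts _ c fun r hr hd => ?_
      obtain ⟨i, ⟨n, hn⟩, hi⟩ := exists_part c hr
      refine ⟨i, hi hd, by_contra fun hnot => ?_⟩
      exact hno M hM (g ^ e) (sylow_le_fitIn Q hQ) hne ⟨p, hp, 1, by rw [pow_one]; exact hpe⟩
        (c ^ i) (((show Commute c g from mem_centralizer_singleton_iff.1 hc).pow_right e).pow_left i)
        hnot r hr n (orderOf_dvd_iff_pow_eq_one.1 hn)
    exact Core.isNilpotent_mono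
      (Core.isNilpotent_map (Core.fittingSubgroup_isNilpotent (G := M)) M.subtype) hle
  have := Fact.mk hp
  have := Fact.mk hq
  have hv1 : v ≠ 1 := fun e => hvF (e ▸ one_mem _)
  obtain ⟨Qv, hvQ⟩ := exists_sylow_mem hvq
  set M' := normalizer ((Qv : Subgroup S) : Set S) with hM'def
  have hM' : IsCoatom M' := (h.sylow_structure Qv fun e => hv1 (by simpa [e] using hvQ)).1
  have hvF' : v ∈ fitIn M' := sylow_le_fitIn Qv hvQ
  have hvM : v ∈ M := h.centralizer_le_coatom hM hsF hs1 (mem_centralizer_singleton_iff.2 hsv.eq)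
  have hsM' : s ∈ M' :=
    h.centralizer_le_coatom hM' hvF' hv1 (mem_centralizer_singleton_iff.2 hsv.symm.eq)
  have hne : M ≠ M' := fun e => hvF (e ▸ hvF')
  have hsF' : s ∉ fitIn M' := fun hc => hne (h.fitIn_eq_of_mem hM hM' hsF hc hs1)
  set W := M ⊓ M' with hWdef
  have hsW : s ∈ W := ⟨fitIn_le M hsF, hsM'⟩
  have hvW : v ∈ W := ⟨hvM, fitIn_le M' hvF'⟩
  have hWab : ∀ a ∈ W, ∀ b ∈ W, Commute a b := fun a ha b hb => h.commute_inf hM hM' hne ha hb
  have hCW : ∀ c : S, Commute c s → Commute c v → c ∈ W := fun c hcs hcv =>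
    ⟨h.centralizer_le_coatom hM hsF hs1 (mem_centralizer_singleton_iff.2 hcs.eq),
      h.centralizer_le_coatom hM' hvF' hv1 (mem_centralizer_singleton_iff.2 hcv.eq)⟩
  -- the maximal subgroups meeting `W` in their Fitting subgroups
  let 𝒦 : Finset (Subgroup S) :=
    Finset.univ.filter fun L => IsCoatom L ∧ fitIn L ⊓ W ≠ ⊥
  have hKW : ∀ L ∈ 𝒦, W ≤ L := by
    intro L hL w hw
    obtain ⟨hL, hLW⟩ := (Finset.mem_filter.1 hL).2
    obtain ⟨d, hd, hd1⟩ := exists_mem_ne_one hLW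
    exact h.centralizer_le_coatom hL hd.1 hd1
      (mem_centralizer_singleton_iff.2 (hWab w hw d hd.2).eq)
  have hKM : M ∈ 𝒦 := Finset.mem_filter.2 ⟨Finset.mem_univ _, hM,
    fun e => hs1 (mem_bot.1 (e ▸ (⟨hsF, hsW⟩ : s ∈ fitIn M ⊓ W)))⟩
  have hKM' : M' ∈ 𝒦 := Finset.mem_filter.2 ⟨Finset.mem_univ _, hM',
    fun e => hv1 (mem_bot.1 (e ▸ (⟨hvF', hvW⟩ : v ∈ fitIn M' ⊓ W)))⟩
  have hcardK : ∀ L ∈ 𝒦,
      Nat.card W * Nat.card (fitIn L) = Nat.card (fitIn L ⊓ W : Subgroup S) * Nat.card L := by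
    intro L hLK
    have hL := (Finset.mem_filter.1 hLK).2.1
    by_cases hLM : L = M
    · subst hLM
      have := h.card_inter hM hM' hq hvq hvM hvF hvF'
      rw [← hWdef] at this
      rwa [show fitIn L ⊓ W = fitIn L ⊓ M' from by
        rw [hWdef, ← inf_assoc, inf_eq_left.2 (fitIn_le L)]]
    · have hsL : s ∈ L := hKW L hLK hsW
      have hsFL : s ∉ fitIn L := fun hc => hLM (h.fitIn_eq_of_mem hL hM hc hsF hs1)
      have hWL : L ⊓ M = W := by
        refine le_antisymm (fun c hc => ?_) (le_inf (hKW L hLK) inf_le_left)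
        exact hCW c (h.commute_inf hL hM hLM hc ⟨hsL, hsW.1⟩)
          (h.commute_inf hL hM hLM hc ⟨hKW L hLK hvW, hvM⟩)
      have := h.card_inter hL hM hp hsp hsL hsFL hsF
      rw [hWL] at this
      rwa [show fitIn L ⊓ W = fitIn L ⊓ M from by
        rw [← hWL, ← inf_assoc, inf_eq_left.2 (fitIn_le L)]]
  let Ω : Finset S := Finset.univ.filter fun w => w ∈ W ∧ w ≠ 1 ∧ ∀ L ∈ 𝒦, w ∉ fitIn L
  have hpartK : ∀ w ∈ W, ∀ (r i : ℕ), r.Prime → w ^ i ≠ 1 → (∃ n, (w ^ i) ^ r ^ n = 1) →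
      ∃ L ∈ 𝒦, w ^ i ∈ fitIn L := by
    intro w hw r i hr hi hn
    have := Fact.mk hr
    obtain ⟨R, hR⟩ := exists_sylow_mem hn
    refine ⟨_, Finset.mem_filter.2 ⟨Finset.mem_univ _,
      (h.sylow_structure R fun e => hi (by simpa [e] using hR)).1, fun e => hi ?_⟩,
      sylow_le_fitIn R hR⟩
    exact mem_bot.1 (e ▸ (⟨sylow_le_fitIn R hR, pow_mem hw i⟩ : w ^ i ∈ fitIn _ ⊓ W))
  have hΩC : ∀ w ∈ Ω, ∀ c : S, Commute c w → c ∈ W := by
    intro w hw c hc
    obtain ⟨hwW, hw1, hwK⟩ := (Finset.mem_filter.1 hw).2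
    obtain ⟨r, i, hr, hi, hir⟩ := exists_prime_pow_ne_one hw1
    obtain ⟨L, hLK, hL⟩ := hpartK w hwW r i hr hi ⟨1, by rw [pow_one]; exact hir⟩
    obtain ⟨r', hr', hd', hnot⟩ : ∃ r' : ℕ, r'.Prime ∧ r' ∣ orderOf w ∧
        ∀ j : ℕ, ¬ r' ∣ j → w ^ j ∉ fitIn L := by
      by_contra hall
      push Not at hall
      exact hwK L hLK (mem_of_parts _ w fun r' hr' hd' => hall r' hr' hd')
    obtain ⟨j, ⟨n, hn⟩, hj⟩ := exists_part w hr'
    have hj' := hnot j (hj hd')
    have hj1 : w ^ j ≠ 1 := fun e => hj' (e ▸ one_mem _)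
    obtain ⟨L', hLK', hL'⟩ :=
      hpartK w hwW r' j hr' hj1 ⟨n, orderOf_dvd_iff_pow_eq_one.1 hn⟩
    have hLL : L ≠ L' := fun e => hj' (e ▸ hL')
    have hLc := (Finset.mem_filter.1 hLK).2.1
    have hLc' := (Finset.mem_filter.1 hLK').2.1
    have hcL : c ∈ L ⊓ L' := ⟨h.centralizer_le_coatom hLc hL hi
      (mem_centralizer_singleton_iff.2 (hc.pow_right i).eq),
      h.centralizer_le_coatom hLc' hL' hj1 (mem_centralizer_singleton_iff.2 (hc.pow_right j).eq)⟩
    exact hCW c (h.commute_inf hLc hLc' hLL hcL ⟨hKW L hLK hsW, hKW L' hLK' hsW⟩)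
      (h.commute_inf hLc hLc' hLL hcL ⟨hKW L hLK hvW, hKW L' hLK' hvW⟩)
  have hNW : ∀ g : S, (∀ a ∈ W, g * a * g⁻¹ ∈ W) → g ∈ W := by
    intro g hg
    have aux : ∀ (L : Subgroup S), IsCoatom L → W ≤ L → ∀ (r : ℕ) (t : S), r.Prime → t ∈ W →
        t ∈ fitIn L → t ≠ 1 → (∃ n, t ^ r ^ n = 1) → g ∈ L := by
      intro L hL hWL r t hr htW htF ht1 ⟨n, hn⟩
      refine h.conj_fit_mem hL htF (h.mem_fitIn_of_prime_dvd hL hr ?_ (hWL (hg t htW))
        ⟨n, by rw [conj_pow, hn, mul_one, mul_inv_cancel]⟩) ht1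
      obtain ⟨i, -, hi⟩ := (Nat.dvd_prime_pow hr).1 (orderOf_dvd_of_pow_eq_one hn)
      have h1 := orderOf_dvd_natCard (fitIn L) htF
      rw [hi] at h1
      refine dvd_trans (dvd_pow_self r fun e => ht1 ?_) h1
      rw [e, pow_zero] at hi
      exact orderOf_eq_one_iff.1 hi
    exact ⟨aux M hM inf_le_left p s hp hsW hsF hs1 hsp,
      aux M' hM' inf_le_right q v hq hvW hvF' hv1 hvq⟩
  have hΩTI : ∀ w ∈ (Ω : Set S), ∀ g : S, g * w * g⁻¹ ∈ (Ω : Set S) → g ∈ W := by
    intro w hw g hgw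
    refine hNW g fun a ha => hΩC _ hgw _ ?_
    exact (Commute.conj_iff g).2 (hWab a ha w (Finset.mem_filter.1 hw).2.1)
  have hΩst : ∀ x ∈ W, ∀ w ∈ (Ω : Set S), x * w * x⁻¹ ∈ (Ω : Set S) := by
    intro x hx w hw
    rw [(hWab x hx w (Finset.mem_filter.1 hw).2.1).eq, mul_inv_cancel_right]
    exact hw
  -- the sets of conjugates
  let cset : Set S → Finset S := fun A => Finset.univ.filter fun y => ∃ g : S, g⁻¹ * y * g ∈ A
  have hcset : ∀ (A : Set S) (H : Subgroup S), (∀ x ∈ H, ∀ a ∈ A, x * a * x⁻¹ ∈ A) →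
      (∀ a ∈ A, ∀ g : S, g * a * g⁻¹ ∈ A → g ∈ H) →
      (cset A).card = H.index * A.ncard := by
    intro A H hst hTI
    rw [← card_conjSet A H hst hTI, ← Set.ncard_coe_finset]
    congr 1
    ext y
    simp [cset]
  have hmem : ∀ (A : Set S) (y : S), y ∈ cset A → ∃ g : S, g⁻¹ * y * g ∈ A := fun A y hy => by
    simpa [cset] using hy
  let Fs : Subgroup S → Set S := fun L => (fitIn L : Set S) \ {1}
  have hFscard : ∀ L : Subgroup S, (Fs L).ncard = Nat.card (fitIn L) - 1 := fun L => by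
    rw [Set.ncard_sdiff_singleton_of_mem (one_mem _ : (1 : S) ∈ (fitIn L : Set S)),
      ← Nat.card_coe_set_eq]
    rfl
  have hcsetF : ∀ L ∈ 𝒦, (cset (Fs L)).card = L.index * (Nat.card (fitIn L) - 1) := by
    intro L hLK
    rw [← hFscard]
    refine hcset _ L (fun x hx a ha => ⟨conj_mem_fitIn hx ha.1, fun e => ha.2 ?_⟩) ?_
    · exact conj_eq_one_iff.1 e
    · exact fun a ha g hga => h.conj_fit_mem (Finset.mem_filter.1 hLK).2.1 ha.1 hga.1 ha.2
  -- two members meeting a common class coincide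
  have hconjK : ∀ L L' : Subgroup S, IsCoatom L → IsCoatom L' → ∀ (g a : S), a ∈ fitIn L →
      g * a * g⁻¹ ∈ fitIn L' → a ≠ 1 → ∀ r : ℕ, r.Prime →
      (r ∣ Nat.card (fitIn L) ↔ r ∣ Nat.card (fitIn L')) := by
    intro L L' hL hL' g a ha hga ha1
    suffices H : ∀ L L' : Subgroup S, IsCoatom L → IsCoatom L' → ∀ (g a : S), a ∈ fitIn L →
        g * a * g⁻¹ ∈ fitIn L' → a ≠ 1 → ∀ r : ℕ, r.Prime →
        r ∣ Nat.card (fitIn L) → r ∣ Nat.card (fitIn L') from
      fun r hr => ⟨H L L' hL hL' g a ha hga ha1 r hr,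
        H L' L hL' hL g⁻¹ (g * a * g⁻¹) hga (by simpa [mul_assoc] using ha)
          (by rwa [Ne, conj_eq_one_iff]) r hr⟩
    intro L L' hL hL' g a ha hga ha1 r hr hrd
    obtain ⟨t, e, ht, hne, hte⟩ := exists_prime_pow_ne_one ha1
    have := Fact.mk ht
    have := Fact.mk hr
    obtain ⟨T, hT⟩ := exists_sylow_mem (p := t) ⟨1, by rw [pow_one]; exact hte⟩
    have hLT := h.coatom_eq hL (pow_mem ha e) hne T hT
    have hLT' := h.coatom_eq hL' (p := t) (pow_mem hga e)
      (by rw [conj_pow, Ne, conj_eq_one_iff]; exact hne) (g • T) ⟨a ^ e, hT, by simp [conj_pow]⟩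
    have hconj : ∀ m ∈ L, g * m * g⁻¹ ∈ L' := by
      intro m hm
      rw [hLT']
      refine Sylow.smul_eq_iff_mem_normalizer.1 ?_
      rw [mul_smul, mul_smul, inv_smul_smul,
        Sylow.smul_eq_iff_mem_normalizer.2 (hLT ▸ hm : m ∈ normalizer ((T : Subgroup S) : Set S))]
    obtain ⟨d, hd⟩ := exists_prime_orderOf_dvd_card' (G := fitIn L) r hrd
    have hdo : orderOf (d : S) = r := by rw [Subgroup.orderOf_coe, hd]
    have hd1 : (d : S) ≠ 1 := fun e' => hr.one_lt.ne (by rw [← hdo, e', orderOf_one])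
    obtain ⟨R, hR⟩ := exists_sylow_mem (p := r) (s := (d : S))
      ⟨1, by rw [pow_one]; exact hdo ▸ pow_orderOf_eq_one _⟩
    have hLR := h.coatom_eq hL d.2 hd1 R hR
    have hgR : ((g • R : Sylow r S) : Subgroup S) ≠ ⊥ := fun e' => by
      have : g * (d : S) * g⁻¹ ∈ ((g • R : Sylow r S) : Subgroup S) := ⟨_, hR, rfl⟩
      rw [e', mem_bot, conj_eq_one_iff] at this
      exact hd1 this
    obtain ⟨hN, x, hxR, -, -, hle⟩ := h.sylow_structure (g • R) hgR
    have hxL' : x ∈ L' := by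
      obtain ⟨y, hy, rfl⟩ := hxR
      exact hconj y (hLR ▸ le_normalizer hy)
    have heq : L' = normalizer (((g • R : Sylow r S) : Subgroup S) : Set S) :=
      (hle L' hL'.1 hxL').eq_or_lt.resolve_right fun hlt => hN.1 (hL'.2 _ hlt)
    rw [heq]
    obtain ⟨n, hn⟩ := IsPGroup.iff_card.1 (g • R).isPGroup'
    have hn0 : n ≠ 0 := fun e' => hgR (by rw [e', pow_zero, card_eq_one] at hn; exact hn)
    exact ((dvd_pow_self r hn0).trans hn.symm.dvd).trans (card_dvd_of_le (sylow_le_fitIn _))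
  have hdisjK : ∀ L ∈ 𝒦, ∀ L' ∈ 𝒦, L ≠ L' → Disjoint (cset (Fs L)) (cset (Fs L')) := by
    intro L hLK L' hLK' hLL
    refine Finset.disjoint_left.2 fun y hy hy' => hLL ?_
    obtain ⟨g, ha⟩ := hmem _ _ hy
    obtain ⟨g', hb⟩ := hmem _ _ hy'
    obtain ⟨hL, hLW⟩ := (Finset.mem_filter.1 hLK).2
    have hL' := (Finset.mem_filter.1 hLK').2.1
    obtain ⟨d, hd, hd1⟩ := exists_mem_ne_one hLW
    obtain ⟨r, i, hr, hi, hir⟩ := exists_prime_pow_ne_one hd1
    have hrd : r ∣ Nat.card (fitIn L) := by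
      have := orderOf_dvd_natCard (fitIn L) (pow_mem hd.1 i)
      have hro : orderOf (d ^ i) = r := by
        have := Fact.mk hr
        exact orderOf_eq_prime hir hi
      rwa [hro] at this
    have hrd' := ((hconjK L L' hL hL' (g'⁻¹ * g) (g⁻¹ * y * g) ha.1
      (by have := hb.1; simpa [mul_assoc] using this) (fun e => ha.2 e)) r hr).1 hrd
    exact h.fitIn_eq_of_mem hL hL' (pow_mem hd.1 i)
      (h.mem_fitIn_of_prime_dvd hL' hr hrd' (pow_mem (hKW L' hLK' hd.2) i)
        ⟨1, by rw [pow_one]; exact hir⟩) hi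
  have hdisjΩ : Disjoint (𝒦.biUnion fun L => cset (Fs L)) (cset (Ω : Set S)) := by
    refine Finset.disjoint_left.2 fun y hy hy' => ?_
    obtain ⟨L, hLK, hyL⟩ := Finset.mem_biUnion.1 hy
    obtain ⟨g, ha⟩ := hmem _ _ hyL
    obtain ⟨g', hw⟩ := hmem _ _ hy'
    set w := g'⁻¹ * y * g' with hwdef
    obtain ⟨hwW, hw1, hwK⟩ := (Finset.mem_filter.1 hw).2
    obtain ⟨r, i, hr, hi, hir⟩ := exists_prime_pow_ne_one hw1
    obtain ⟨L₁, hLK₁, hL₁⟩ := hpartK w hwW r i hr hi ⟨1, by rw [pow_one]; exact hir⟩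
    have hLc := (Finset.mem_filter.1 hLK).2.1
    have hLc₁ := (Finset.mem_filter.1 hLK₁).2.1
    have hconjw : (g⁻¹ * g') * w * (g⁻¹ * g')⁻¹ = g⁻¹ * y * g := by rw [hwdef]; group
    refine hwK L₁ hLK₁ (mem_of_parts _ w fun t ht htd => ?_)
    obtain ⟨j, ⟨n, hn⟩, hj⟩ := exists_part w ht
    refine ⟨j, hj htd, h.mem_fitIn_of_prime_dvd hLc₁ ht ?_ (pow_mem (hKW L₁ hLK₁ hwW) j)
      ⟨n, orderOf_dvd_iff_pow_eq_one.1 hn⟩⟩
    refine (hconjK L₁ L hLc₁ hLc (g⁻¹ * g') (w ^ i) hL₁ ?_ hi t ht).2 ?_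
    · rw [← conj_pow, hconjw]; exact pow_mem ha.1 i
    · refine htd.trans ?_
      rw [← (MulAut.conj (g⁻¹ * g')).orderOf_eq w, MulAut.conj_apply, hconjw]
      exact orderOf_dvd_natCard (fitIn L) ha.1
  -- counting
  have hbU : (𝒦.biUnion fun L => cset (Fs L)).card + (cset (Ω : Set S)).card + 1 ≤ Nat.card S := by
    rw [← Finset.card_union_of_disjoint hdisjΩ, Nat.card_eq_fintype_card]
    refine Finset.card_lt_univ_of_notMem (x := (1 : S)) fun h1 => ?_
    rcases Finset.mem_union.1 h1 with h1 | h1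
    · obtain ⟨L, -, hL⟩ := Finset.mem_biUnion.1 h1
      obtain ⟨g, hg⟩ := hmem _ _ hL
      exact hg.2 (by simp)
    · obtain ⟨g, hg⟩ := hmem _ _ h1
      exact (Finset.mem_filter.1 hg).2.2.1 (by group)
  rw [Finset.card_biUnion hdisjK, Finset.sum_congr rfl hcsetF, hcset _ W hΩst hΩTI,
    Set.ncard_coe_finset] at hbU
  have hWpart : Nat.card W = (∑ L ∈ 𝒦, (Nat.card (fitIn L ⊓ W : Subgroup S) - 1)) + Ω.card + 1 := by
    let Ds : Subgroup S → Finset S := fun L =>
      (Finset.univ.filter fun w => w ∈ fitIn L ⊓ W).erase 1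
    have hDs : ∀ L, (Ds L).card = Nat.card (fitIn L ⊓ W : Subgroup S) - 1 := fun L => by
      rw [Finset.card_erase_of_mem (Finset.mem_filter.2 ⟨Finset.mem_univ _, one_mem _⟩),
        Nat.card_eq_fintype_card, Fintype.card_subtype]
    have hd1 : ∀ L ∈ 𝒦, ∀ L' ∈ 𝒦, L ≠ L' → Disjoint (Ds L) (Ds L') := by
      intro L hLK L' hLK' hLL
      refine Finset.disjoint_left.2 fun w hw hw' => hLL ?_
      obtain ⟨hw1, hwm⟩ := Finset.mem_erase.1 hw
      exact h.fitIn_eq_of_mem (Finset.mem_filter.1 hLK).2.1 (Finset.mem_filter.1 hLK').2.1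
        (Finset.mem_filter.1 hwm).2.1 (Finset.mem_filter.1 (Finset.mem_erase.1 hw').2).2.1 hw1
    have hd2 : Disjoint (𝒦.biUnion Ds) Ω := by
      refine Finset.disjoint_left.2 fun w hw hwΩ => ?_
      obtain ⟨L, hLK, hwL⟩ := Finset.mem_biUnion.1 hw
      exact (Finset.mem_filter.1 hwΩ).2.2.2 L hLK
        (Finset.mem_filter.1 (Finset.mem_erase.1 hwL).2).2.1
    have heq : (Finset.univ.filter fun w : S => w ∈ W).erase 1 = 𝒦.biUnion Ds ∪ Ω := by
      ext w
      simp only [Finset.mem_erase, Finset.mem_filter, Finset.mem_univ, true_and, Finset.mem_union,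
        Finset.mem_biUnion, Ds, Ω, Subgroup.mem_inf]
      constructor
      · rintro ⟨hw1, hwW⟩
        by_cases hex : ∃ L ∈ 𝒦, w ∈ fitIn L
        · obtain ⟨L, hLK, hL⟩ := hex
          exact Or.inl ⟨L, hLK, hw1, hL, hwW⟩
        · push Not at hex
          exact Or.inr ⟨hwW, hw1, hex⟩
      · rintro (⟨L, -, hw1, -, hwW⟩ | ⟨hwW, hw1, -⟩) <;> exact ⟨hw1, hwW⟩
    have := congrArg Finset.card heq
    rw [Finset.card_union_of_disjoint hd2, Finset.card_biUnion hd1,
      Finset.sum_congr rfl (fun L _ => hDs L),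
      Finset.card_erase_of_mem (Finset.mem_filter.2 ⟨Finset.mem_univ _, one_mem _⟩)] at this
    have hWc : Nat.card W = (Finset.univ.filter fun w : S => w ∈ W).card := by
      rw [Nat.card_eq_fintype_card, Fintype.card_subtype]
    have hpos : 0 < Nat.card W := Nat.card_pos
    rw [← hWc] at this
    omega
  set N := W.index with hN
  have hNW' : Nat.card W * N = Nat.card S := card_mul_index W
  let bonus : Subgroup S → ℕ := fun L => if L = M ∨ L = M' then 2 * N else 0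
  have hineq : ∀ L ∈ 𝒦, 3 * N * (Nat.card (fitIn L ⊓ W : Subgroup S) - 1) + bonus L
      ≤ 3 * (L.index * (Nat.card (fitIn L) - 1)) := by
    intro L hLK
    have hc := hcardK L hLK
    obtain ⟨d, hd⟩ : ∃ d, Nat.card (fitIn L ⊓ W : Subgroup S) = d := ⟨_, rfl⟩
    obtain ⟨f, hf⟩ : ∃ f, Nat.card (fitIn L) = f := ⟨_, rfl⟩
    have hdf : d ∣ f := hd ▸ hf ▸ card_dvd_of_le inf_le_left
    have hf0 : 0 < f := hf ▸ Nat.card_pos
    have hd0 : 0 < d := hd ▸ Nat.card_pos
    rw [hd, hf] at hc ⊢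
    -- `|L : 1| * f = N * d`
    have hidx : L.index * f = N * d := by
      have h1 : Nat.card W * (L.index * f) = Nat.card W * (N * d) := by
        calc Nat.card W * (L.index * f) = L.index * (Nat.card W * f) := by ring
          _ = d * (Nat.card L * L.index) := by rw [hc]; ring
          _ = d * (Nat.card W * N) := by rw [card_mul_index, hNW']
          _ = Nat.card W * (N * d) := by ring
      exact Nat.eq_of_mul_eq_mul_left Nat.card_pos h1
    obtain ⟨t, ht⟩ := hdf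
    have ht0 : 0 < t := by
      rcases Nat.eq_zero_or_pos t with rfl | h' <;> simp_all
    have hNt : N = L.index * t := by
      have : d * N = d * (L.index * t) := by rw [mul_comm d N, ← hidx, ht]; ring
      exact Nat.eq_of_mul_eq_mul_left hd0 this
    by_cases hLM : L = M ∨ L = M'
    · have ht3 : 3 ≤ t := by
        have hodd_f : Odd f := hf ▸ hodd.of_dvd_nat (card_subgroup_dvd_card _)
        have hodd_t : Odd t := hodd_f.of_dvd_nat (ht ▸ dvd_mul_left t d)
        rcases hodd_t with ⟨j, rfl⟩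
        rcases Nat.eq_zero_or_pos j with rfl | hj
        · exfalso
          have hle : fitIn L ≤ W := by
            have : fitIn L ⊓ W = fitIn L :=
              eq_of_le_of_card_ge inf_le_left (le_of_eq (by rw [hd, hf, ht]; ring))
            exact inf_eq_left.1 this
          obtain ⟨a, haF, ha1⟩ := exists_mem_ne_one (h.fitIn_ne_bot (Finset.mem_filter.1 hLK).2.1)
          obtain ⟨r, i, hr, hi, hir⟩ := exists_prime_pow_ne_one ha1
          have := Fact.mk hr
          obtain ⟨R, hR⟩ := exists_sylow_mem (p := r) ⟨1, by rw [pow_one]; exact hir⟩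
          have hLR := h.coatom_eq (Finset.mem_filter.1 hLK).2.1 (pow_mem haF i) hi R hR
          obtain ⟨hRc, x, hxR, -, -, hxle⟩ := h.sylow_structure R
            fun e => hi (by simpa [e] using hR)
          have hxW : x ∈ W := hle (hLR ▸ sylow_le_fitIn R hxR)
          rw [← hLR] at hxle hRc
          rcases hLM with hLM | hLM
          · exact hne (((hxle M' hM'.1 hxW.2).eq_or_lt.resolve_right
              fun hlt => hRc.1 (hM'.2 _ hlt)).trans hLM).symm
          · exact hne (((hxle M hM.1 hxW.1).eq_or_lt.resolve_right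
              fun hlt => hRc.1 (hM.2 _ hlt)).trans hLM)
        · omega
      simp only [bonus, if_pos hLM]
      obtain ⟨d', rfl⟩ := Nat.exists_eq_add_of_le hd0
      obtain ⟨t', rfl⟩ := Nat.exists_eq_add_of_le ht3
      rw [hNt, ht]
      have e1 : 1 + d' - 1 = d' := by omega
      rw [e1, show (1 + d') * (3 + t') - 1 = d' * (3 + t') + (2 + t') by
        rw [add_mul, one_mul]; omega]
      nlinarith
    · simp only [bonus, if_neg hLM, add_zero]
      obtain ⟨d', rfl⟩ := Nat.exists_eq_add_of_le hd0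
      rw [hNt, ht]
      have e1 : 1 + d' - 1 = d' := by omega
      rw [e1, show (1 + d') * t - 1 = d' * t + (t - 1) by rw [add_mul, one_mul]; omega]
      nlinarith
  have hbsum : ∑ L ∈ 𝒦, bonus L = 4 * N := by
    rw [← Finset.sum_subset (s₁ := ({M, M'} : Finset (Subgroup S)))
      (Finset.insert_subset hKM (Finset.singleton_subset_iff.2 hKM'))]
    · rw [Finset.sum_pair hne]
      simp [bonus]
      ring
    · intro L _ hL
      simp only [Finset.mem_insert, Finset.mem_singleton] at hL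
      simp [bonus, hL]
  have hsum := Finset.sum_le_sum hineq
  rw [Finset.sum_add_distrib, hbsum, ← Finset.mul_sum, ← Finset.mul_sum] at hsum
  have hNpos : 0 < N := Nat.pos_of_ne_zero index_ne_zero_of_finite
  obtain ⟨D, hD⟩ : ∃ D, (∑ L ∈ 𝒦, (Nat.card (fitIn L ⊓ W : Subgroup S) - 1)) = D := ⟨_, rfl⟩
  obtain ⟨E, hE⟩ : ∃ E, (∑ L ∈ 𝒦, L.index * (Nat.card (fitIn L) - 1)) = E := ⟨_, rfl⟩
  rw [hD] at hWpart hsum
  rw [hE] at hbU hsum
  rw [← hNW', hWpart] at hbU
  nlinarith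

end Cfsg.Agent.CommValues
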