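import Cfsg.Agent.CommValues.Solvable
import Cfsg.Agent.Invol.BaerSuzuki
import Cfsg.Agent.Fusion.Alperin

/-!
# The simple section of a minimal nonsolvable counterexample
-/

set_option autoImplicit false

namespace Cfsg.Agent.CommValues

open Subgroup Cfsg
open scoped commutatorElement

universe u

/-- A simple group with distinguished sets of prime power elements coming from commutator values. -/
structure Setting (S : Type u) [Group S] [Finite S] where
  simple : IsSimpleGroup S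
  not_solvable : ¬ Group.IsSolvable S
  X : ℕ → Set S
  x_spec : ∀ p x, x ∈ X p → x ≠ 1 ∧ ∃ n, x ^ p ^ n = 1
  x_conj : ∀ p x, x ∈ X p → ∀ g : S, g * x * g⁻¹ ∈ X p
  nilq : ∀ H : Subgroup S, H ≠ ⊤ → Group.IsNilpotent (H ⧸ fittingSubgroup H)
  solv : ∀ H : Subgroup S, H ≠ ⊤ → Group.IsSolvable H
  x_local : ∀ p : ℕ, p.Prime → ∀ H : Subgroup S, H ≠ ⊤ → ∀ x ∈ X p, x ∈ H →
    x ∈ (pCore p H).map H.subtype
  x_comm : ∀ p : ℕ, p.Prime → ∀ Q : Subgroup S, IsPGroup p Q → ∀ x ∈ Q, x ∈ X p → ∀ h ∈ Q,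
    ⁅x, h⁆ = 1 ∨ ⁅x, h⁆ ∈ X p
  lift : ∀ p : ℕ, p.Prime → ∀ Q : Subgroup S, IsPGroup p Q →
    ∀ y ∈ normalizer (Q : Set S), (orderOf y).Coprime p →
    ∃ z ∈ normalizer (Q : Set S), (orderOf z).Coprime p ∧ z⁻¹ * y ∈ Q ∧
      ∀ w ∈ Q, ∃ k, (eng z)^[k] w = 1 ∨ (eng z)^[k] w ∈ X p

variable {G : Type u} [Group G] [Finite G] {S : Type u} [Group S] [Finite S]

theorem image_sylow_comap {f : G →* S} (hf : Function.Surjective f) {p : ℕ} [Fact p.Prime]
    {Q : Subgroup S} (hQ : IsPGroup p Q) (P : Sylow p (Q.comap f)) {w : S} (hw : w ∈ Q) :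
    ∃ w' ∈ (P : Subgroup (Q.comap f)).map (Q.comap f).subtype, f w' = w := by
  have hsurj : Function.Surjective (f.subgroupComap Q) := by
    rintro ⟨c, hc⟩
    obtain ⟨d, rfl⟩ := hf c
    exact ⟨⟨d, hc⟩, rfl⟩
  have htop : (⊤ : Subgroup Q) = (P.mapSurjective hsurj : Subgroup Q) :=
    (P.mapSurjective hsurj).is_maximal' (hQ.to_subgroup ⊤) le_top
  have hwP : (⟨w, hw⟩ : Q) ∈ (P.mapSurjective hsurj : Subgroup Q) := htop ▸ mem_top _
  rw [Sylow.coe_mapSurjective] at hwP
  obtain ⟨w', hw', hww⟩ := hwP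
  exact ⟨w', mem_map_of_mem _ hw', congrArg Subtype.val hww⟩

theorem isNilpotent_quotient_fitting_of_surjective {A B : Type u} [Group A] [Group B] [Finite A]
    {φ : A →* B} (hφ : Function.Surjective φ) (h : Group.IsNilpotent (A ⧸ fittingSubgroup A)) :
    Group.IsNilpotent (B ⧸ fittingSubgroup B) :=
  Group.nilpotent_of_surjective
    (QuotientGroup.map _ (fittingSubgroup B) φ
      (map_le_iff_le_comap.1 (Core.map_fittingSubgroup_le_of_surjective hφ)))
    (fun q => by
      obtain ⟨b, rfl⟩ := QuotientGroup.mk_surjective q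
      obtain ⟨a, rfl⟩ := hφ b
      exact ⟨QuotientGroup.mk a, rfl⟩)

/-- A commutator value of `p`-power order lies in `O_p` of each solvable subgroup containing it. -/
theorem val_mem_pCore {k : ℕ} (hG : Cond k G) {H : Subgroup G} (hH : Group.IsSolvable H) {p : ℕ}
    (hp : p.Prime) {u : G} (hu : Val k u) (hpu : ∃ n, u ^ p ^ n = 1) (huH : u ∈ H) :
    (⟨u, huH⟩ : H) ∈ pCore p H := by
  refine mem_pCore_of_centralizes hp (isNilpotent_quotient_fitting (hG.subgroup H)) ?_ ?_
  · obtain ⟨n, hn⟩ := hpu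
    exact ⟨n, Subtype.ext (by simpa using hn)⟩
  intro t ht htp w hw
  have := Fact.mk ht
  have hn : u ∈ normalizer (((pCore t H).map H.subtype : Subgroup G) : Set G) :=
    le_normalizer_map _ ⟨⟨u, huH⟩, by rw [SetLike.mem_coe, normalizer_eq_top]; exact mem_top _, rfl⟩
  obtain ⟨j, hj⟩ := IsPGroup.iff_card.1 (Core.pCore_isPGroup (p := t) (G := H))
  obtain ⟨n, hn'⟩ := hpu
  refine Subtype.ext ?_
  refine (hG.commute_of_normalizes hu hn ?_ (mem_map_of_mem H.subtype hw)).eq
  rw [card_map_of_injective H.subtype_injective, hj]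
  exact Nat.Coprime.coprime_dvd_left (orderOf_dvd_of_pow_eq_one hn')
    (((Nat.coprime_primes hp ht).2 (Ne.symm htp)).pow n j)

theorem exists_lift {k : ℕ} {f : G →* S} (hf : Function.Surjective f) {p : ℕ} (hp : p.Prime)
    {Q : Subgroup S} (hQ : IsPGroup p Q) {y : S} (hy : y ∈ normalizer (Q : Set S))
    (hyp : (orderOf y).Coprime p) :
    ∃ z ∈ normalizer (Q : Set S), (orderOf z).Coprime p ∧ z⁻¹ * y ∈ Q ∧
      ∀ w ∈ Q, (eng z)^[k] w = 1 ∨
        ((eng z)^[k] w ≠ 1 ∧ ∃ u : G, Val k u ∧ (∃ n, u ^ p ^ n = 1) ∧ f u = (eng z)^[k] w) := by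
  have := Fact.mk hp
  set K := Q.comap f with hK
  obtain ⟨y', hy'⟩ := hf y
  obtain ⟨P⟩ := (inferInstance : Nonempty (Sylow p K))
  set P' := (P : Subgroup K).map K.subtype with hP'
  have hP'p : IsPGroup p P' := P.isPGroup'.map _
  have hP'K : P' ≤ K := map_subtype_le _
  have hidx : ¬ p ∣ P'.relIndex K := by
    rw [hP', relIndex, subgroupOf, comap_map_eq_self_of_injective K.subtype_injective]
    exact P.not_dvd_index
  obtain ⟨m, hm, hle⟩ := Fusion.exists_conjSub_le_of_not_dvd_relIndex hP'K hP'p hidx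
    (T := Fusion.conjSub y'⁻¹ P') (fun v hv => by
      rw [Fusion.mem_conjSub] at hv
      have h1 : f (y'⁻¹ * v * y'⁻¹⁻¹) ∈ Q := hP'K hv
      rw [map_mul, map_mul, map_inv, inv_inv, hy'] at h1
      exact (mem_normalizer_iff''.1 hy (f v)).2 h1)
    (Fusion.isPGroup_conjSub hP'p)
  set n := m⁻¹ * y' with hn
  have hnP : n ∈ normalizer (P' : Set G) := by
    refine Invol.mem_normalizer_of_conj_le ?_
    rintro _ ⟨v, hv, rfl⟩
    refine hle ?_
    rw [Fusion.mem_conjSub, Fusion.mem_conjSub]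
    simpa [hn, mul_assoc] using hv
  have hfn : f n = (f m)⁻¹ * y := by rw [hn, map_mul, map_inv, hy']
  have hfnN : f n ∈ normalizer (Q : Set S) := by
    rw [hfn]; exact mul_mem (inv_mem (le_normalizer hm)) hy
  obtain ⟨e, e', hee, ⟨v, hev⟩, hcop, -⟩ := exists_parts n hp
  have hzN : f (n ^ e') ∈ normalizer (Q : Set S) := by
    rw [map_pow]; exact pow_mem hfnN e'
  have heQ : f (n ^ e) ∈ Q := by
    let N := normalizer (Q : Set S)
    let π := QuotientGroup.mk' (Q.subgroupOf N)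
    have h1 : π ⟨f n, hfnN⟩ = π ⟨y, hy⟩ := by
      have : (⟨f n, hfnN⟩ : N) = ⟨(f m)⁻¹, inv_mem (le_normalizer hm)⟩ * ⟨y, hy⟩ := Subtype.ext hfn
      rw [this, map_mul, (QuotientGroup.eq_one_iff _).2 (mem_subgroupOf.2 (inv_mem hm) :
        (⟨(f m)⁻¹, inv_mem (le_normalizer hm)⟩ : N) ∈ Q.subgroupOf N) |> (fun h => show π _ = 1 from h),
        one_mul]
    have h2 : π (⟨f n, hfnN⟩ ^ e) = 1 := by
      refine orderOf_eq_one_iff.1 (Nat.dvd_one.1 ?_)
      rw [← (hyp.pow_right v).gcd_eq_one]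
      refine Nat.dvd_gcd ?_ ?_
      · rw [map_pow, h1]
        exact (orderOf_pow_dvd e).trans ((orderOf_map_dvd π _).trans
          (by rw [Subgroup.orderOf_mk]))
      · refine (orderOf_map_dvd π _).trans ?_
        rw [← Subgroup.orderOf_coe, Subgroup.coe_pow, ← map_pow]
        exact (orderOf_map_dvd f _).trans hev
    have := mem_subgroupOf.1 ((QuotientGroup.eq_one_iff _).1 h2)
    rwa [Subgroup.coe_pow, ← map_pow] at this
  refine ⟨f (n ^ e'), hzN, Nat.Coprime.coprime_dvd_left (orderOf_map_dvd f _) hcop, ?_,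
    fun w hw => ?_⟩
  · have h3 : f m ∈ Q := hm
    have heq : (f (n ^ e'))⁻¹ * y =
        ((f (n ^ e'))⁻¹ * f m * f (n ^ e')) * ((f (n ^ e'))⁻¹ * f (n ^ e) * f (n ^ e')) := by
      have : y = f m * (f (n ^ e) * f (n ^ e')) := by
        rw [← map_mul f (n ^ e), hee, hfn, mul_inv_cancel_left]
      conv_lhs => rw [this]
      group
    rw [heq]
    exact mul_mem ((mem_normalizer_iff''.1 hzN _).1 h3) ((mem_normalizer_iff''.1 hzN _).1 heQ)
  · by_cases h1 : (eng (f (n ^ e')))^[k] w = 1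
    · exact Or.inl h1
    obtain ⟨w', hw', rfl⟩ := image_sylow_comap hf hQ P hw
    have hu := iterate_eng_mem (pow_mem hnP e') hw' k
    obtain ⟨i, hi⟩ := hP'p ⟨_, hu⟩
    exact Or.inr ⟨h1, _, val_iterate_eng _ _ k, ⟨i, congrArg Subtype.val hi⟩,
      map_iterate_eng f _ _ k⟩

/-- The simple quotient of a minimal nonsolvable group with the condition. -/
theorem exists_setting {k : ℕ} (hG : Cond k G) (hns : ¬ Group.IsSolvable G)
    (hsub : ∀ H : Subgroup G, H ≠ ⊤ → Group.IsSolvable H) :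
    ∃ (S : Type u) (_ : Group S) (_ : Finite S), Nonempty (Setting S) := by
  have hnt : Nontrivial G := by
    by_contra h
    have := not_nontrivial_iff_subsingleton.1 h
    exact hns inferInstance
  obtain ⟨R, ⟨hRn, hRt⟩, hRmax⟩ := WellFounded.has_min (wellFounded_gt (α := Subgroup G))
    {R : Subgroup G | R.Normal ∧ R ≠ ⊤} ⟨⊥, inferInstance, bot_ne_top⟩
  let f := QuotientGroup.mk' R
  have hf : Function.Surjective f := QuotientGroup.mk'_surjective R
  have hRsol : Group.IsSolvable R := hsub R hRt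
  have hns' : ¬ Group.IsSolvable (G ⧸ R) := fun h =>
    hns (Group.isSolvable_of_ker_le_range R.subtype f (by rw [range_subtype, QuotientGroup.ker_mk']))
  have hproper : ∀ H : Subgroup (G ⧸ R), H ≠ ⊤ → H.comap f ≠ ⊤ := fun H hH e =>
    hH (comap_injective hf (e.trans (comap_top f).symm))
  have hsurj : ∀ H : Subgroup (G ⧸ R), Function.Surjective (f.subgroupComap H) := by
    rintro H ⟨c, hc⟩
    obtain ⟨d, rfl⟩ := hf c
    exact ⟨⟨d, hc⟩, rfl⟩
  refine ⟨G ⧸ R, inferInstance, inferInstance, ⟨?_⟩⟩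
  exact
  { simple := by
      have : Nontrivial (G ⧸ R) := QuotientGroup.nontrivial_iff.2 hRt
      refine ⟨fun N hN => ?_⟩
      by_cases hNt : N = ⊤
      · exact Or.inr hNt
      left
      have hle : R ≤ N.comap f := fun r hr => by
        rw [mem_comap, show f r = 1 from (QuotientGroup.eq_one_iff r).2 hr]; exact one_mem N
      have heq : N.comap f = R := by
        by_contra hne
        exact hRmax _ ⟨hN.comap f, hproper N hNt⟩ (lt_of_le_of_ne hle (Ne.symm hne))
      rw [← map_comap_eq_self_of_surjective hf N, heq, QuotientGroup.map_mk'_self]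
    not_solvable := hns'
    X := fun p => {x | x ≠ 1 ∧ ∃ u : G, Val k u ∧ (∃ n, u ^ p ^ n = 1) ∧ f u = x}
    x_spec := fun p x hx => by
      obtain ⟨h1, u, -, ⟨n, hn⟩, rfl⟩ := hx
      exact ⟨h1, n, by rw [← map_pow, hn, map_one]⟩
    x_conj := fun p x hx g => by
      obtain ⟨h1, u, hu, ⟨n, hn⟩, rfl⟩ := hx
      obtain ⟨g', rfl⟩ := hf g
      refine ⟨fun e => h1 (conj_eq_one_iff.1 e), g' * u * g'⁻¹, hu.conj g',
        ⟨n, by rw [conj_pow, hn, mul_one, mul_inv_cancel]⟩, by simp⟩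
    nilq := fun H hH => by
      have := hsub _ (hproper H hH)
      exact isNilpotent_quotient_fitting_of_surjective (hsurj H)
        (isNilpotent_quotient_fitting (hG.subgroup _))
    solv := fun H hH => by
      have := hsub _ (hproper H hH)
      exact Group.isSolvable_of_surjective (hsurj H)
    x_local := fun p hp H hH x hx hxH => by
      obtain ⟨-, u, hu, hpu, rfl⟩ := hx
      have h := val_mem_pCore hG (hsub _ (hproper H hH)) hp hu hpu
        (show u ∈ H.comap f from hxH)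
      exact ⟨_, Core.map_pCore_le_of_surjective (hsurj H) (mem_map_of_mem _ h), rfl⟩
    x_comm := fun p hp Q hQ x hxQ hx h hh => by
      by_cases h1 : ⁅x, h⁆ = 1
      · exact Or.inl h1
      obtain ⟨-, u, hu, ⟨n, hn⟩, rfl⟩ := hx
      have := Fact.mk hp
      have hz : IsPGroup p (zpowers (⟨u, hxQ⟩ : Q.comap f)) := by
        intro w
        refine ⟨n, Subtype.ext ?_⟩
        obtain ⟨i, hi⟩ := mem_zpowers_iff.1 w.2
        refine Subtype.ext ?_
        rw [Subgroup.coe_pow, ← hi]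
        simp only [SubgroupClass.coe_pow, SubgroupClass.coe_zpow, Subgroup.coe_one]
        rw [← zpow_natCast, ← zpow_mul, mul_comm, zpow_mul, zpow_natCast, hn, one_zpow]
      obtain ⟨P, hP⟩ := hz.exists_le_sylow
      obtain ⟨h', hh', rfl⟩ := image_sylow_comap hf hQ P hh
      have huP : u ∈ (P : Subgroup (Q.comap f)).map (Q.comap f).subtype :=
        ⟨_, hP (mem_zpowers _), rfl⟩
      obtain ⟨i, hi⟩ := (P.isPGroup'.map (Q.comap f).subtype)
        ⟨⁅u, h'⁆, by rw [commutatorElement_def]; exact mul_mem (mul_mem (mul_mem huP hh')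
          (inv_mem huP)) (inv_mem hh')⟩
      exact Or.inr ⟨h1, ⁅u, h'⁆, hu.comm_right h', ⟨i, congrArg Subtype.val hi⟩,
        map_commutatorElement f u h'⟩
    lift := fun p hp Q hQ y hy hyp => by
      obtain ⟨z, hz, hzc, hzy, hzw⟩ := exists_lift (k := k) hf hp hQ hy hyp
      exact ⟨z, hz, hzc, hzy, fun w hw => ⟨k, (hzw w hw).imp id id⟩⟩ }

end Cfsg.Agent.CommValues
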