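import Cfsg.Agent.CommValues.Basic
import Cfsg.Agent.CommValues.Parts
import Cfsg.Agent.Core.Frattini
import Mathlib.GroupTheory.Sylow

/-!
# The solvable case
-/

set_option autoImplicit false

namespace Cfsg.Agent.CommValues

open Subgroup Cfsg
open scoped commutatorElement

universe u

variable {H : Type u} [Group H] [Finite H]

/-- The join of the cores for primes different from `p`. -/
def otherCores (p : ℕ) (H : Type u) [Group H] : Subgroup H :=
  ⨆ t : {t : Nat.Primes // (t : ℕ) ≠ p}, pCore (t.1 : ℕ) H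

instance otherCores_normal (p : ℕ) : (otherCores p H).Normal :=
  Subgroup.iSup_normal _

theorem fitting_le_sup (p : ℕ) : fittingSubgroup H ≤ pCore p H ⊔ otherCores p H := by
  rw [Core.fittingSubgroup_eq_iSup_pCore]
  refine iSup_le fun t => ?_
  by_cases h : (t : ℕ) = p
  · rw [h]; exact le_sup_left
  · exact le_sup_of_le_right (le_iSup_of_le ⟨t, h⟩ le_rfl)

theorem commute_cores {p : ℕ} (hp : p.Prime) {a b : H} (ha : a ∈ pCore p H)
    (hb : b ∈ otherCores p H) : Commute a b := by
  have hle : otherCores p H ≤ centralizer (pCore p H : Set H) := by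
    refine iSup_le fun t w hw => mem_centralizer_iff.2 fun v hv => ?_
    have := Fact.mk hp
    have := Fact.mk t.1.2
    exact commute_of_normal_of_disjoint _ _ inferInstance inferInstance
      (IsPGroup.disjoint_of_ne p (t.1 : ℕ) (fun e => t.2 e.symm) _ _ Core.pCore_isPGroup
        Core.pCore_isPGroup) v w hv hw
  exact mem_centralizer_iff.1 (hle hb) a ha

theorem mem_centralizer_otherCores {p : ℕ} {x : H}
    (h : ∀ t : ℕ, t.Prime → t ≠ p → ∀ w ∈ pCore t H, Commute x w) :
    x ∈ centralizer (otherCores p H : Set H) := by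
  have hle : otherCores p H ≤ centralizer ({x} : Set H) :=
    iSup_le fun t w hw => mem_centralizer_singleton_iff.2 ((h _ t.1.2 t.2 w hw).symm.eq)
  exact mem_centralizer_iff.2 fun w hw => mem_centralizer_singleton_iff.1 (hle hw)

theorem le_fitting_of_centralizes {p : ℕ} (hp : p.Prime) (K : Subgroup H) [K.Normal]
    (hc : K ≤ centralizer (otherCores p H : Set H))
    (hpow : ∀ k ∈ K, ∃ n, k ^ p ^ n ∈ fittingSubgroup H) : K ≤ fittingSubgroup H := by
  have := Fact.mk hp
  refine Core.le_fittingSubgroup (Group.of_quotient_center_nilpotent ?_)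
  refine IsPGroup.isNilpotent (p := p) fun q => ?_
  obtain ⟨k, rfl⟩ := QuotientGroup.mk_surjective q
  obtain ⟨n, hn⟩ := hpow k k.2
  obtain ⟨a, ha, b, hb, hab⟩ := mem_sup_of_normal_left.1 (fitting_le_sup p hn)
  obtain ⟨m, hm⟩ := Core.pCore_isPGroup (p := p) (G := H) ⟨a, ha⟩
  refine ⟨n + m, ?_⟩
  rw [← QuotientGroup.mk_pow, QuotientGroup.eq_one_iff, mem_center_iff]
  intro g
  have hmem : ((k : H) ^ p ^ (n + m)) ∈ otherCores p H := by
    rw [pow_add, pow_mul, ← hab, (commute_cores hp ha hb).mul_pow]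
    have : a ^ p ^ m = 1 := congrArg Subtype.val hm
    rw [this, one_mul]
    exact pow_mem hb _
  refine Subtype.ext ?_
  rw [Subgroup.coe_mul, Subgroup.coe_mul, Subgroup.coe_pow]
  exact (mem_centralizer_iff.1 (hc g.2) _ hmem).symm

theorem mem_pCore_of_mem_fitting {p : ℕ} (hp : p.Prime) {x : H} (hx : ∃ n, x ^ p ^ n = 1)
    (hxF : x ∈ fittingSubgroup H) : x ∈ pCore p H := by
  have := Fact.mk hp
  have h : (⟨x, hxF⟩ : fittingSubgroup H) ∈ pCore p (fittingSubgroup H) := by
    refine mem_pCore_of_pow hp ?_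
    obtain ⟨n, hn⟩ := hx
    exact ⟨n, Subtype.ext (by simpa using hn)⟩
  have h2 : x ∈ (pCore p (fittingSubgroup H)).map (fittingSubgroup H).subtype := ⟨_, h, rfl⟩
  rw [Core.map_pCore_normal] at h2
  exact h2.1

/-- In a metanilpotent group a `p`-element centralizing the other cores lies in `O_p`. -/
theorem mem_pCore_of_centralizes {p : ℕ} (hp : p.Prime)
    (hnil : Group.IsNilpotent (H ⧸ fittingSubgroup H)) {x : H} (hx : ∃ n, x ^ p ^ n = 1)
    (hc : ∀ t : ℕ, t.Prime → t ≠ p → ∀ w ∈ pCore t H, Commute x w) : x ∈ pCore p H := by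
  have := Fact.mk hp
  let f := QuotientGroup.mk' (fittingSubgroup H)
  refine mem_pCore_of_mem_fitting hp hx
    (le_fitting_of_centralizes hp
      ((pCore p (H ⧸ fittingSubgroup H)).comap f ⊓ centralizer (otherCores p H : Set H))
      inf_le_right (fun k hk => ?_) ⟨?_, mem_centralizer_otherCores hc⟩)
  · obtain ⟨n, hn⟩ := Core.pCore_isPGroup (p := p) (G := H ⧸ fittingSubgroup H) ⟨f k, hk.1⟩
    exact ⟨n, (QuotientGroup.eq_one_iff _).1 (congrArg Subtype.val hn)⟩
  · obtain ⟨n, hn⟩ := hx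
    exact mem_pCore_of_pow hp ⟨n, by rw [← map_pow, hn, map_one]⟩

/-- A solvable group in which each element centralizes each core of prime not dividing its order
is nilpotent. -/
theorem isNilpotent_of_centralizes [Group.IsSolvable H]
    (h : ∀ q : ℕ, q.Prime → ∀ y : H, (orderOf y).Coprime q → ∀ a ∈ pCore q H, Commute y a) :
    Group.IsNilpotent H := by
  have hK : ∀ p : ℕ, p.Prime → centralizer (otherCores p H : Set H) ≤ fittingSubgroup H := by
    intro p hp
    refine le_fitting_of_centralizes hp _ le_rfl fun k hk => ?_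
    obtain ⟨v, m, hm, ho⟩ := Nat.exists_eq_pow_mul_and_not_dvd (orderOf_pos k).ne' p hp.ne_one
    refine ⟨v, Core.centralizer_fittingSubgroup_le (mem_centralizer_iff.2 fun w hw => ?_)⟩
    have hord : (orderOf (k ^ p ^ v)).Coprime p := by
      refine Nat.Coprime.coprime_dvd_left (orderOf_dvd_of_pow_eq_one ?_)
        (hp.coprime_iff_not_dvd.2 hm).symm
      rw [← pow_mul, ← ho, pow_orderOf_eq_one]
    obtain ⟨a, ha, b, hb, rfl⟩ := mem_sup_of_normal_left.1 (fitting_le_sup p hw)
    have h1 : Commute (k ^ p ^ v) a := h p hp _ hord a ha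
    have h2 : Commute (k ^ p ^ v) b :=
      (show Commute b k from mem_centralizer_iff.1 hk b hb).symm.pow_left _
    exact (h1.mul_right h2).symm.eq
  have htop : fittingSubgroup H = ⊤ := by
    refine eq_top_iff.2 fun g _ => mem_of_parts _ g fun p hp hd => ?_
    obtain ⟨e, ⟨n, hn⟩, he⟩ := exists_part g hp
    refine ⟨e, he hd, hK p hp (mem_centralizer_otherCores fun t ht htp w hw => ?_)⟩
    exact h t ht _ (Nat.Coprime.coprime_dvd_left hn
      (((Nat.coprime_primes hp ht).2 (Ne.symm htp)).pow_left n)) w hw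
  have := Core.fittingSubgroup_isNilpotent (G := H)
  exact Group.isNilpotent_top.1 (htop ▸ this)

theorem isNilpotent_quotient_fitting [Group.IsSolvable H] {k : ℕ} (hH : Cond k H) :
    Group.IsNilpotent (H ⧸ fittingSubgroup H) := by
  refine isNilpotent_of_centralizes fun q hq ybar hy abar ha => ?_
  have := Fact.mk hq
  let f := QuotientGroup.mk' (fittingSubgroup H)
  set Oq := pCore q (H ⧸ (fittingSubgroup H))
  set Kq := Oq.comap f with hKq
  obtain ⟨Q⟩ := (inferInstance : Nonempty (Sylow q Kq))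
  set Q' := (Q : Subgroup Kq).map Kq.subtype
  have hQK : Q' ≤ Kq := map_subtype_le _
  have hQp : IsPGroup q Q' := Q.isPGroup'.map _
  have himg : ∀ b ∈ Oq, ∃ w ∈ Q', f w = b := by
    intro b hb
    have hsurj : Function.Surjective (f.subgroupComap Oq) := by
      rintro ⟨c, hc⟩
      obtain ⟨d, rfl⟩ := QuotientGroup.mk'_surjective (fittingSubgroup H) c
      exact ⟨⟨d, hc⟩, rfl⟩
    set P := Q.mapSurjective hsurj
    have htop : (⊤ : Subgroup Oq) = (P : Subgroup Oq) :=
      P.is_maximal' ((IsPGroup.to_subgroup (Core.pCore_isPGroup (p := q) (G := H ⧸ (fittingSubgroup H)))) ⊤) le_top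
    have hbP : (⟨b, hb⟩ : Oq) ∈ (P : Subgroup Oq) := htop ▸ mem_top _
    rw [Sylow.coe_mapSurjective] at hbP
    obtain ⟨w, hw, hwb⟩ := hbP
    exact ⟨w, mem_map_of_mem _ hw, congrArg Subtype.val hwb⟩
  obtain ⟨y, rfl⟩ := QuotientGroup.mk'_surjective (fittingSubgroup H) ybar
  have hfr := Sylow.normalizer_sup_eq_top Q
  have hyN : y ∈ normalizer (Q' : Set H) ⊔ Kq := by rw [hfr]; exact mem_top y
  obtain ⟨n, hn, κ, hκ, rfl⟩ := mem_sup_of_normal_right.1 hyN
  obtain ⟨e, e', hee, ⟨v, hev⟩, hcop, -⟩ := exists_parts n hq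
  set z := f (n ^ e')
  have hzQ : ∀ b ∈ Oq, Commute z b := by
    intro b hb
    obtain ⟨w, hw, rfl⟩ := himg b hb
    set u := (eng (n ^ e'))^[k] w
    have huQ : u ∈ Q' := iterate_eng_mem (pow_mem hn e') hw k
    obtain ⟨i, hi⟩ := hQp ⟨u, huQ⟩
    have hu : u ^ q ^ i = 1 := congrArg Subtype.val hi
    have huF : u ∈ (fittingSubgroup H) := by
      refine le_fitting_of_centralizes hq (Kq ⊓ centralizer (otherCores q H : Set H)) inf_le_right
        (fun c hc => ?_) ⟨hQK huQ, mem_centralizer_otherCores fun t ht htq w' hw' => ?_⟩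
      · obtain ⟨j, hj⟩ := Core.pCore_isPGroup (p := q) (G := H ⧸ (fittingSubgroup H)) ⟨f c, hc.1⟩
        exact ⟨j, (QuotientGroup.eq_one_iff _).1 (congrArg Subtype.val hj)⟩
      · have := Fact.mk ht
        refine hH.commute_of_normalizes (val_iterate_eng _ _ k) ?_ ?_ hw'
        · rw [normalizer_eq_top]; exact mem_top _
        · obtain ⟨j, hj⟩ := IsPGroup.iff_card.1 (Core.pCore_isPGroup (p := t) (G := H))
          rw [hj]
          exact Nat.Coprime.coprime_dvd_left (orderOf_dvd_of_pow_eq_one hu)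
            (((Nat.coprime_primes hq ht).2 (Ne.symm htq)).pow i j)
    have hit : (eng z)^[k] (f w) = 1 := by
      rw [← map_iterate_eng f]
      exact (QuotientGroup.eq_one_iff _).2 huF
    obtain ⟨j, hj⟩ := IsPGroup.iff_card.1 (Core.pCore_isPGroup (p := q) (G := H ⧸ (fittingSubgroup H)))
    refine (commute_of_eng_eq_one (eng_eq_one_of_iterate (Q := Oq) ?_ ?_ k (f w) hb hit)).symm
    · rw [normalizer_eq_top]; exact mem_top _
    · rw [show Nat.card Oq = q ^ j from hj]
      exact (Nat.Coprime.coprime_dvd_left (orderOf_map_dvd f _) hcop).pow_right j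
  -- `ybar = z` as both have order prime to `q` and agree modulo `O_q`
  suffices hyz : f (n * κ) = z by rw [hyz]; exact hzQ abar ha
  have hecoset : f (n ^ e) ∈ Oq := by
    let g := QuotientGroup.mk' Oq
    have h1 : g (f (n ^ e)) = g (f (n * κ)) ^ e := by
      have : g (f κ) = 1 := (QuotientGroup.eq_one_iff _).2 hκ
      rw [map_mul f, map_mul g, this, mul_one, map_pow, map_pow]
    refine (QuotientGroup.eq_one_iff _).1 (orderOf_eq_one_iff.1 ?_)
    refine Nat.dvd_one.1 ?_
    rw [← (hy.pow_right v).gcd_eq_one]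
    refine Nat.dvd_gcd ?_ ?_
    · change orderOf (g (f (n ^ e))) ∣ _
      rw [h1]
      exact (orderOf_pow_dvd e).trans (orderOf_map_dvd g _)
    · exact ((orderOf_map_dvd g _).trans (orderOf_map_dvd f _)).trans hev
  set c := z⁻¹ * f (n * κ)
  have hc : c ∈ Oq := by
    have : c = z⁻¹ * f (n ^ e) * z * f κ := by
      have hh : f n = f (n ^ e) * f (n ^ e') := by rw [← map_mul, hee]
      simp only [c, z]
      rw [map_mul, hh, mul_assoc, mul_assoc, mul_assoc]
    rw [this]
    refine mul_mem ?_ hκ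
    have h := Subgroup.Normal.conj_mem (inferInstance : Oq.Normal) _ hecoset z⁻¹
    rwa [inv_inv] at h
  have hcomm : Commute z (f (n * κ)) := by
    have : f (n * κ) = z * c := by simp [c]
    rw [this]
    exact (Commute.refl z).mul_right (hzQ c hc)
  have hc1 : orderOf c ∣ orderOf z * orderOf (f (n * κ)) := by
    have := hcomm.inv_left.orderOf_mul_dvd_mul_orderOf
    rwa [orderOf_inv] at this
  obtain ⟨j, hj⟩ := Core.pCore_isPGroup (p := q) (G := H ⧸ (fittingSubgroup H)) ⟨c, hc⟩
  have hc2 : orderOf c ∣ q ^ j := orderOf_dvd_of_pow_eq_one (congrArg Subtype.val hj)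
  have hc3 : orderOf c = 1 := by
    refine Nat.dvd_one.1 ?_
    rw [← (((Nat.Coprime.coprime_dvd_left (orderOf_map_dvd f _) hcop).mul_left hy).pow_right
      j).gcd_eq_one]
    exact Nat.dvd_gcd hc1 hc2
  exact (inv_mul_eq_one.1 (orderOf_eq_one_iff.1 hc3)).symm

theorem exists_nilpotent_supplement (hnil : Group.IsNilpotent (H ⧸ fittingSubgroup H)) :
    ∃ D : Subgroup H, Group.IsNilpotent D ∧
      Function.Surjective ((QuotientGroup.mk' (fittingSubgroup H)).comp D.subtype) := by
  set F := fittingSubgroup H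
  obtain ⟨D, hD, hmin⟩ := WellFounded.has_min (wellFounded_lt (α := Subgroup H))
    {D : Subgroup H | D ⊔ F = ⊤} ⟨⊤, top_sup_eq F⟩
  have hsurj : Function.Surjective ((QuotientGroup.mk' F).comp D.subtype) := by
    intro q
    obtain ⟨x, rfl⟩ := QuotientGroup.mk'_surjective F q
    have hx : x ∈ D ⊔ F := by rw [show D ⊔ F = ⊤ from hD]; exact mem_top x
    obtain ⟨d, hd, w, hw, rfl⟩ := mem_sup_of_normal_right.1 hx
    refine ⟨⟨d, hd⟩, ?_⟩
    simp [(QuotientGroup.eq_one_iff w).2 hw]
  refine ⟨D, ?_, hsurj⟩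
  have hfr : F.subgroupOf D ≤ frattini D := by
    refine Core.le_frattini fun M hM => ?_
    by_contra hle
    have h1 : M ⊔ F.subgroupOf D = ⊤ := hM.2 _ (lt_of_le_of_ne le_sup_left fun e => hle (e ▸ le_sup_right))
    have h2 : M.map D.subtype ⊔ F = ⊤ := by
      refine top_le_iff.1 (le_trans (le_of_eq (show D ⊔ F = ⊤ from hD).symm) (sup_le ?_ le_sup_right))
      intro d hd
      have : (⟨d, hd⟩ : D) ∈ (M ⊔ F.subgroupOf D).map (MonoidHom.id D) := by
        rw [h1]; exact ⟨⟨d, hd⟩, mem_top _, rfl⟩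
      obtain ⟨x, hx, hxd⟩ := this
      obtain ⟨m, hm, w, hw, rfl⟩ := mem_sup_of_normal_right.1 hx
      have := congrArg Subtype.val hxd
      simp only [MonoidHom.id_apply, Subgroup.coe_mul] at this
      rw [← this]
      exact mul_mem_sup (mem_map_of_mem _ hm) hw
    refine hmin _ h2 (lt_of_le_of_ne (map_subtype_le M) fun e => hM.1 ?_)
    refine eq_top_iff.2 fun x _ => ?_
    have : (x : H) ∈ M.map D.subtype := e.symm ▸ x.2
    obtain ⟨m, hm, hmx⟩ := this
    rwa [← D.subtype_injective hmx]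
  refine Core.isNilpotent_of_quotient_frattini ?_
  have hker : ((QuotientGroup.mk' F).comp D.subtype).ker ≤ frattini D := by
    intro x hx
    refine hfr ((mem_subgroupOf).2 ?_)
    exact (QuotientGroup.eq_one_iff _).1 hx
  have he := QuotientGroup.quotientKerEquivOfSurjective _ hsurj
  have : Group.IsNilpotent (D ⧸ ((QuotientGroup.mk' F).comp D.subtype).ker) :=
    (Group.isNilpotent_congr he).2 hnil
  exact Group.nilpotent_of_surjective
    (QuotientGroup.map _ (frattini D) (MonoidHom.id D) (fun x hx => hker hx))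
    (fun q => by
      obtain ⟨x, rfl⟩ := QuotientGroup.mk_surjective q
      exact ⟨QuotientGroup.mk x, rfl⟩)

theorem exists_val_lift {A : Type*} [Group A] {B : Type*} [Group B] {φ : A →* B}
    (hφ : Function.Surjective φ) : ∀ {k : ℕ} {x : B}, Val k x → ∃ a, Val k a ∧ φ a = x
  | 0, x, _ => (hφ x).imp fun _ h => ⟨trivial, h⟩
  | _ + 1, _, ⟨_, hc, b, hx⟩ => by
    obtain ⟨a, ha, rfl⟩ := exists_val_lift hφ hc
    obtain ⟨b', rfl⟩ := hφ b
    exact ⟨⁅a, b'⁆, ⟨a, ha, b', rfl⟩, by rw [hx, map_commutatorElement]⟩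

/-- The solvable case. -/
theorem lcs_le_fitting [Group.IsSolvable H] {k : ℕ} (hH : Cond k H) :
    (⊤ : Subgroup H).lowerCentralSeries k ≤ fittingSubgroup H := by
  have hnil := isNilpotent_quotient_fitting hH
  obtain ⟨D, hD, hsurj⟩ := exists_nilpotent_supplement hnil
  refine lcs_le_of_val _ k fun x hx => ?_
  obtain ⟨d, hd, hdx⟩ := exists_val_lift hsurj (hx.map (QuotientGroup.mk' _))
  have hdF : (d : H) ∈ fittingSubgroup H := by
    refine mem_of_parts _ _ fun p hp hpd => ?_
    rw [Subgroup.orderOf_coe] at hpd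
    obtain ⟨φ, e, hφe, hφp, he⟩ := exists_partHom (G := D) hp
    refine ⟨e, he (hpd.trans (orderOf_dvd_natCard d)), ?_⟩
    have hval : Val k ((φ d : D) : H) := (hd.map φ).map D.subtype
    obtain ⟨n, hn⟩ := hφp d
    have hn' : ((φ d : D) : H) ^ p ^ n = 1 := congrArg Subtype.val hn
    have h1 := mem_pCore_of_centralizes hp hnil ⟨n, hn'⟩ fun t ht htp w hw => by
      have := Fact.mk ht
      refine hH.commute_of_normalizes hval ?_ ?_ hw
      · rw [normalizer_eq_top]; exact mem_top _
      · obtain ⟨j, hj⟩ := IsPGroup.iff_card.1 (Core.pCore_isPGroup (p := t) (G := H))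
        rw [hj]
        exact Nat.Coprime.coprime_dvd_left (orderOf_dvd_of_pow_eq_one hn')
          (((Nat.coprime_primes hp ht).2 (Ne.symm htp)).pow n j)
    have := Fact.mk hp
    have h2 := Core.pCore_le_fittingSubgroup p h1
    rwa [hφe, Subgroup.coe_pow] at h2
  refine (QuotientGroup.eq_one_iff x).1 ?_
  change (QuotientGroup.mk' (fittingSubgroup H)) x = 1
  rw [← hdx]
  exact (QuotientGroup.eq_one_iff _).2 hdF

end Cfsg.Agent.CommValues
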